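import Groth.Agent.Synt.K561.LciDict
import Groth.Agent.Dual.H376.ChartExist
import Groth.Agent.Krr.H495.Rank
import Groth.Agent.PerfB.FlatPull
import Groth.Agent.Krr.H487.LocBasisPull

/-!
# The conormal module of a Koszul-regular closed immersion is finite locally free; ranks
-/

set_option autoImplicit false
universe u
open CategoryTheory CategoryTheory.Limits AlgebraicGeometry Opposite TopologicalSpace

namespace K561.ConFree

open Groth.Agent Groth.Agent.Flat2H Groth.Agent.Flat2H.LCIMaps Groth.Agent.Flat2H.LCIMaps2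
  Groth.Agent.Dual.H375.LciLocus K561.RegImmDict K561.LciDict
open Groth.Agent.Sga67.Sec Groth.Agent.Sga67.LocBasis Groth.Agent.Krr.H495.Rank
open Groth.Agent.Krr.H487.LocBasisPull Groth.Agent.Dual.H377.KChart Groth.Agent.Dual.H376.ChartExist

section Rank

variable {X Y : Scheme.{u}}

theorem rk_pullback (f : Y ⟶ X) {M : X.Modules} (hM : FlatMod.IsFinLocFree M) (y : Y) :
    rk ((Scheme.Modules.pullback f).obj M) y = rk M (f y) := by
  obtain ⟨U, hx, b, hb⟩ := exists_isLocBasis hM (f y)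
  rw [rk_eq_of_isLocBasis (isLocBasis_pbS f hb) (show y ∈ f ⁻¹ᵁ U from hx), Fintype.card_fin]

theorem rk_restrict {M : X.Modules} (hM : FlatMod.IsFinLocFree M) {U : X.Opens} {x : X} (hx : x ∈ U) :
    rk ((Scheme.Modules.restrictFunctor U.ι).obj M) ⟨x, hx⟩ = rk M x := by
  let e : (Scheme.Modules.restrictFunctor U.ι).obj M ≅ (Scheme.Modules.pullback U.ι).obj M :=
    (Scheme.Modules.restrictFunctorIsoPullback U.ι).app M
  have h1 := rk_iso e.symm (Groth.Agent.PerfB.FlatPull.isFinLocFree_pullback U.ι hM) ⟨x, hx⟩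
  rw [← h1, rk_pullback U.ι hM]
  rfl

theorem rk_of_restrict {M : X.Modules} (hM : FlatMod.IsFinLocFree M) {U : X.Opens} {x : X} (hx : x ∈ U)
    {n : ℕ} (h : FlatMod.IsFinLocFreeOfRank n ((Scheme.Modules.restrictFunctor U.ι).obj M)) :
    rk M x = n := by
  rw [← rk_restrict hM hx]
  exact rk_of_rank h _

end Rank

variable {X Y : Scheme.{u}} (i : X ⟶ Y) [IsClosedImmersion i]

theorem isKoszulRegularImmersion_of_LM (h : LM i) : Dual3.IsKoszulRegularImmersion i := by
  refine ⟨inferInstance, fun V => ?_⟩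
  have h1 := HasRingHomProperty.appLE LM i h V ⟨i ⁻¹ᵁ V.1, V.2.preimage i⟩ le_rfl
  rw [Scheme.Hom.appLE_eq_app, toRingHom_iff_kerK _ (i.app_surjective V.1 V.2)] at h1
  rw [Scheme.Hom.ker_apply]
  exact h1

/-- Existence of Koszul charts. -/
theorem exists_kchart (hi : Dual3.IsKoszulRegularImmersion i) (x : X) :
    ∃ (r : ℕ) (c : KChart i r), i x ∈ c.U := by
  obtain ⟨_, ⟨V, rfl⟩, hxV, -⟩ := Opens.isBasis_iff_nbhd.mp (affineBasis Y)
    (show i x ∈ (⊤ : Y.Opens) from trivial)
  obtain ⟨g, hg, l, hl, hlk⟩ := hi.2 V (V.2.primeIdealOf ⟨i x, hxV⟩) (ker_le_primeIdealOf V.2 x hxV)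
  rw [K561.RegImmDict.notMem_primeIdealOf_iff] at hg
  have hU' : IsAffineOpen (Y.basicOpen g) := V.2.basicOpen g
  let ρ : Γ(Y, V.1) →+* Γ(Y, Y.basicOpen g) := (Y.presheaf.map (homOfLE (Y.basicOpen_le g)).op).hom
  let _ : Algebra Γ(Y, V.1) Γ(Y, Y.basicOpen g) := ρ.toAlgebra
  have hloc : IsLocalization.Away g Γ(Y, Y.basicOpen g) := V.2.isLocalization_basicOpen g
  let e : Localization.Away g ≃ₐ[Γ(Y, V.1)] Γ(Y, Y.basicOpen g) :=
    IsLocalization.algEquiv (Submonoid.powers g) _ _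
  have hk : i.ker.ideal ⟨Y.basicOpen g, hU'⟩ = Ideal.span {x | x ∈ l.map e} := by
    have h1 := i.ker.map_ideal (U := ⟨Y.basicOpen g, hU'⟩) (V := V) (Y.basicOpen_le g)
    rw [← h1]
    have h2 : (i.ker.ideal V).map ρ = ((i.ker.ideal V).map (algebraMap Γ(Y, V.1) (Localization.Away g))).map
        (e : Localization.Away g →+* Γ(Y, Y.basicOpen g)) := by
      rw [Ideal.map_map]
      congr 1
      ext a
      exact (e.commutes a).symm
    refine h2.trans ?_
    rw [hlk, Ideal.map_span]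
    congr 1
    ext a
    simp only [Set.mem_image, Set.mem_ofPred_eq, List.mem_map]
    rfl
  obtain ⟨c, hc⟩ := exists_kchart_of_seq (Y.basicOpen g) hU' (l.map e)
    ((Flat2H.KoszulLoc.isKoszulRegularSeq_map_ringEquiv_iff e.toRingEquiv l).mpr hl) hk
  exact ⟨_, c, by rw [hc]; exact hg⟩

/-- The conormal module of a Koszul-regular closed immersion is finite locally free. -/
theorem isFinLocFree_conormal (hi : Dual3.IsKoszulRegularImmersion i) :
    FlatMod.IsFinLocFree (Omega.conormal i) := by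
  rw [isFinLocFree_iff]
  intro x
  obtain ⟨r, c, hx⟩ := exists_kchart i hi x
  exact ⟨(aff c).1, r, hx, bN c, isLocBasis_bN c⟩

theorem isFinLocFree_conormal_of_LM (h : LM i) : FlatMod.IsFinLocFree (Omega.conormal i) :=
  isFinLocFree_conormal i (isKoszulRegularImmersion_of_LM i h)

end K561.ConFree
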