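import Mathlib.Algebra.Homology.DerivedCategory.ShortExact
import Mathlib.Algebra.Homology.DerivedCategory.HomologySequence
import Mathlib.Algebra.Homology.HomologicalComplexAbelian
import Mathlib.Algebra.Homology.Double

/-!
# Quasi-isomorphisms of two-term complexes
-/

set_option autoImplicit false

open CategoryTheory CategoryTheory.Limits HomologicalComplex

namespace K561.TwoTerm

universe w v u

variable {C : Type u} [Category.{v} C] [Abelian C]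

/-- The relation `-1 → 0`. -/
theorem rel : (ComplexShape.up ℤ).Rel (-1 : ℤ) 0 := neg_add_cancel (1 : ℤ)

theorem ne : (-1 : ℤ) ≠ 0 := by decide

/-- The two-term complex in degrees `-1, 0`. -/
noncomputable abbrev dbl {X₀ X₁ : C} (f : X₀ ⟶ X₁) : CochainComplex C ℤ := double f rel

/-- Functoriality of the two-term complex. -/
noncomputable def dmap {X₀ X₁ Y₀ Y₁ : C} {f : X₀ ⟶ X₁} {g : Y₀ ⟶ Y₁} (a : X₀ ⟶ Y₀) (b : X₁ ⟶ Y₁)
    (w : a ≫ g = f ≫ b) : dbl f ⟶ dbl g :=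
  mkHomFromDouble rel ne (a ≫ (doubleXIso₀ g rel).inv) (b ≫ (doubleXIso₁ g rel ne).inv)
    (by rw [double_d g rel ne, Category.assoc, Iso.inv_hom_id_assoc, reassoc_of% w])
    (fun k _ => by rw [double_d_eq_zero₀ g rel 0 k (by decide), comp_zero])

theorem dmap_f₀ {X₀ X₁ Y₀ Y₁ : C} {f : X₀ ⟶ X₁} {g : Y₀ ⟶ Y₁} (a : X₀ ⟶ Y₀) (b : X₁ ⟶ Y₁)
    (w : a ≫ g = f ≫ b) :
    (dmap a b w).f (-1) = (doubleXIso₀ f rel).hom ≫ a ≫ (doubleXIso₀ g rel).inv := by
  simp [dmap]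

theorem dmap_f₁ {X₀ X₁ Y₀ Y₁ : C} {f : X₀ ⟶ X₁} {g : Y₀ ⟶ Y₁} (a : X₀ ⟶ Y₀) (b : X₁ ⟶ Y₁)
    (w : a ≫ g = f ≫ b) :
    (dmap a b w).f 0 = (doubleXIso₁ f rel ne).hom ≫ b ≫ (doubleXIso₁ g rel ne).inv := by
  simp [dmap]

theorem acyclic (Z : C) : (dbl (𝟙 Z)).Acyclic := by
  intro j
  rw [HomologicalComplex.exactAt_iff' _ (j - 1) j (j + 1) (by simp) (by simp)]
  by_cases hj : j = -1
  · subst hj
    have h0 : ((dbl (𝟙 Z)).sc' (-1 - 1) (-1) (-1 + 1)).f = 0 :=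
      (isZero_double_X (𝟙 Z) rel (-1 - 1) (by decide) (by decide)).eq_of_src _ _
    rw [ShortComplex.exact_iff_mono _ h0]
    change Mono ((dbl (𝟙 Z)).d (-1) 0)
    rw [double_d _ _ ne]
    infer_instance
  · by_cases hj' : j = 0
    · subst hj'
      have h0 : ((dbl (𝟙 Z)).sc' (0 - 1) 0 (0 + 1)).g = 0 :=
        (isZero_double_X (𝟙 Z) rel (0 + 1) (by decide) (by decide)).eq_of_tgt _ _
      rw [ShortComplex.exact_iff_epi _ h0]
      change Epi ((dbl (𝟙 Z)).d (-1) 0)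
      rw [double_d _ _ ne]
      infer_instance
    · exact ShortComplex.exact_of_isZero_X₂ _ (isZero_double_X (𝟙 Z) rel j hj hj')

section

variable {X₀ X₁ Y₀ Y₁ Z : C} {f : X₀ ⟶ X₁} {g : Y₀ ⟶ Y₁} {a : X₀ ⟶ Y₀} {b : X₁ ⟶ Y₁}
  (w : a ≫ g = f ≫ b) {q₀ : Y₀ ⟶ Z} {q₁ : Y₁ ⟶ Z} (hq : g ≫ q₁ = q₀)
  (w₀ : a ≫ q₀ = 0) (w₁ : b ≫ q₁ = 0)

/-- The short complex of two-term complexes with third term `Z = Z`. -/
noncomputable def sc : ShortComplex (CochainComplex C ℤ) :=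
  ShortComplex.mk (dmap a b w) (dmap (f := g) (g := 𝟙 Z) q₀ q₁ (by rw [Category.comp_id, hq])) (by
    apply from_double_hom_ext
    · rw [HomologicalComplex.comp_f, dmap_f₀, dmap_f₀]
      simp [reassoc_of% w₀]
    · rw [HomologicalComplex.comp_f, dmap_f₁, dmap_f₁]
      simp [reassoc_of% w₁])

include w₀ w₁ in
theorem shortExact_sc (h₀ : (ShortComplex.mk a q₀ w₀).ShortExact) (h₁ : (ShortComplex.mk b q₁ w₁).ShortExact) :
    (sc w hq w₀ w₁).ShortExact := by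
  apply HomologicalComplex.shortExact_of_degreewise_shortExact
  intro j
  by_cases hj : j = -1
  · subst hj
    refine ShortComplex.shortExact_of_iso ?_ h₀
    refine ShortComplex.isoMk (doubleXIso₀ f rel).symm (doubleXIso₀ g rel).symm
      (doubleXIso₀ (𝟙 Z) rel).symm ?_ ?_
    · change (doubleXIso₀ f rel).inv ≫ (dmap a b w).f (-1) = a ≫ (doubleXIso₀ g rel).inv
      rw [dmap_f₀, Iso.inv_hom_id_assoc]
    · change (doubleXIso₀ g rel).inv ≫ (dmap (f := g) (g := 𝟙 Z) q₀ q₁ (by rw [Category.comp_id, hq])).f (-1) = q₀ ≫ (doubleXIso₀ (𝟙 Z) rel).inv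
      rw [dmap_f₀, Iso.inv_hom_id_assoc]
  · by_cases hj' : j = 0
    · subst hj'
      refine ShortComplex.shortExact_of_iso ?_ h₁
      refine ShortComplex.isoMk (doubleXIso₁ f rel ne).symm (doubleXIso₁ g rel ne).symm
        (doubleXIso₁ (𝟙 Z) rel ne).symm ?_ ?_
      · change (doubleXIso₁ f rel ne).inv ≫ (dmap a b w).f 0 = b ≫ (doubleXIso₁ g rel ne).inv
        rw [dmap_f₁, Iso.inv_hom_id_assoc]
      · change (doubleXIso₁ g rel ne).inv ≫ (dmap (f := g) (g := 𝟙 Z) q₀ q₁ (by rw [Category.comp_id, hq])).f 0 = q₁ ≫ (doubleXIso₁ (𝟙 Z) rel ne).inv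
        rw [dmap_f₁, Iso.inv_hom_id_assoc]
    · have z₁ := isZero_double_X f rel j hj hj'
      have z₂ := isZero_double_X g rel j hj hj'
      have z₃ := isZero_double_X (𝟙 Z) rel j hj hj'
      exact
        { exact := ShortComplex.exact_of_isZero_X₂ _ z₂
          mono_f := ⟨fun _ _ _ => z₁.eq_of_tgt _ _⟩
          epi_g := ⟨fun _ _ _ => z₃.eq_of_src _ _⟩ }

end

section Derived

variable [HasDerivedCategory.{w} C]

theorem isZero_Q_of_acyclic (K : CochainComplex C ℤ) (hK : K.Acyclic) : IsZero (DerivedCategory.Q.obj K) := by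
  have h : QuasiIso (0 : K ⟶ K) := by
    rw [quasiIso_iff]
    intro i
    rw [quasiIsoAt_iff_exactAt _ _ (hK i)]
    exact hK i
  have h1 : IsIso (DerivedCategory.Q.map (0 : K ⟶ K)) :=
    (DerivedCategory.isIso_Q_map_iff_quasiIso C _).2 h
  have h2 : DerivedCategory.Q.map (0 : K ⟶ K) = 0 := Functor.map_zero _ _ _
  rw [IsZero.iff_id_eq_zero, ← cancel_epi (DerivedCategory.Q.map (0 : K ⟶ K)), h2, zero_comp, zero_comp]

variable {X₀ X₁ Y₀ Y₁ Z : C} {f : X₀ ⟶ X₁} {g : Y₀ ⟶ Y₁} {a : X₀ ⟶ Y₀} {b : X₁ ⟶ Y₁}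
  (w : a ≫ g = f ≫ b) {q₀ : Y₀ ⟶ Z} {q₁ : Y₁ ⟶ Z} (hq : g ≫ q₁ = q₀)
  (w₀ : a ≫ q₀ = 0) (w₁ : b ≫ q₁ = 0)

include w hq in
/-- A morphism of two-term complexes which is the beginning of compatible short exact sequences with
the same third term induces an isomorphism in the derived category. -/
theorem isIso_Q_map (h₀ : (ShortComplex.mk a q₀ w₀).ShortExact) (h₁ : (ShortComplex.mk b q₁ w₁).ShortExact) :
    IsIso (DerivedCategory.Q.map (dmap a b w)) := by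
  have hS := shortExact_sc w hq w₀ w₁ h₀ h₁
  have hT := DerivedCategory.triangleOfSES_distinguished hS
  exact (Pretriangulated.Triangle.isZero₃_iff_isIso₁ _ hT).1
    (isZero_Q_of_acyclic _ (acyclic Z))

include w hq in
theorem nonempty_iso (h₀ : (ShortComplex.mk a q₀ w₀).ShortExact) (h₁ : (ShortComplex.mk b q₁ w₁).ShortExact) :
    Nonempty (DerivedCategory.Q.obj (dbl f) ≅ DerivedCategory.Q.obj (dbl g)) := by
  have := isIso_Q_map w hq w₀ w₁ h₀ h₁
  exact ⟨asIso (DerivedCategory.Q.map (dmap a b w))⟩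

end Derived

end K561.TwoTerm
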