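import Groth.Agent.OmegaSh.K561.ConFunct
import Groth.Agent.OmegaSh.K561.OmegaSmooth
import Groth.Agent.OmegaSh.K583.ExistsUniv
import Groth.Agent.Krr.H496.PullK0
import Groth.Agent.Synt.K561.TwoTerm
import Groth.Agent.S9711

/-!
# The cotangent complex of a factorisation: comparison along a smooth morphism
-/

set_option autoImplicit false
universe u

open CategoryTheory CategoryTheory.Limits AlgebraicGeometry TopologicalSpace Opposite OmegaSh

namespace K561.CotComp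

open K583.DerFunct K583.ConMap K561.ConDiff K561.ConFunct K561.OmegaSmooth

variable {X W V Y : Scheme.{u}}

theorem comp_eq_zero {C : Type*} [Category C] [Abelian C] {A B D : C} {a : A ⟶ B} {b : B ⟶ D}
    (h : imageSubobject a = kernelSubobject b) : a ≫ b = 0 := by
  rw [← imageSubobject_arrow_comp a, Category.assoc, ← Subobject.ofLE_arrow h.le, Category.assoc,
    kernelSubobject_arrow_comp, comp_zero, comp_zero]

/-- For a smooth `p : W ⟶ V` the sequence `0 → p^* Ω_{V/Y} → Ω_{W/Y} → Ω_{W/V} → 0` is exact. -/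
theorem shortExact_trans (p : W ⟶ V) [Smooth p] {g : V ⟶ Y} {ΩV : V.Modules} {dV : Der g ΩV}
    (hV : IsUniversal dV) {ΩW : W.Modules} {dW : Der (p ≫ g) ΩW} (hW : IsUniversal dW)
    {ΩP : W.Modules} {dP : Der p ΩP} (hP : IsUniversal dP)
    {c₁ : (Scheme.Modules.pullback p).obj ΩV ⟶ ΩW} (hc₁ : IsDiffCompat p dV dW c₁)
    {c₂ : (Scheme.Modules.pullback (𝟙 W)).obj ΩW ⟶ ΩP} (hc₂ : IsDiffCompat (𝟙 W) dW dP c₂) :
    ∃ w : c₁ ≫ (Scheme.Modules.pullbackId W).inv.app ΩW ≫ c₂ = 0,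
      (ShortComplex.mk c₁ ((Scheme.Modules.pullbackId W).inv.app ΩW ≫ c₂) w).ShortExact := by
  obtain ⟨hepi, him⟩ := Groth.Agent.S5975.result p g ΩV dV hV ΩW dW hW ΩP dP hP c₁ hc₁ c₂ hc₂
  have hmono := mono_of_isFormallySmoothHom p rfl
    (Groth.Agent.Flat2H.FSSmoothHom.isFormallySmoothHom_of_smooth p) hV hW c₁ hc₁
  have hw : c₁ ≫ (Scheme.Modules.pullbackId W).inv.app ΩW ≫ c₂ = 0 := comp_eq_zero him
  refine ⟨hw, ?_⟩
  exact
    { exact := (ShortComplex.exact_iff_image_eq_kernel _).mpr him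
      mono_f := hmono
      epi_g := by
        change Epi ((Scheme.Modules.pullbackId W).inv.app ΩW ≫ c₂)
        infer_instance }

/-- Compatible short exact sequences `0 → C_{X/V} → C_{X/W} → k^* Ω_{W/V} → 0` and
`0 → (k ≫ p)^* Ω_{V/Y} → k^* Ω_{W/Y} → k^* Ω_{W/V} → 0`. -/
theorem exists_ses (k : X ⟶ W) [IsImmersion k] [QuasiCompact k] (p : W ⟶ V) [Smooth p]
    [IsImmersion (k ≫ p)] [QuasiCompact (k ≫ p)] {g : V ⟶ Y} {ΩV : V.Modules} {dV : Der g ΩV}
    (hV : IsUniversal dV) {ΩW : W.Modules} {dW : Der (p ≫ g) ΩW} (hW : IsUniversal dW)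
    {φV : Omega.conormal (k ≫ p) ⟶ (Scheme.Modules.pullback (k ≫ p)).obj ΩV}
    (hφV : IsConormalDiff (k ≫ p) dV φV)
    {φW : Omega.conormal k ⟶ (Scheme.Modules.pullback k).obj ΩW} (hφW : IsConormalDiff k dW φW) :
    ∃ (Z : X.Modules) (_ : FlatMod.IsFinLocFree Z) (a : Omega.conormal (k ≫ p) ⟶ Omega.conormal k)
      (b : (Scheme.Modules.pullback (k ≫ p)).obj ΩV ⟶ (Scheme.Modules.pullback k).obj ΩW)
      (q₀ : Omega.conormal k ⟶ Z) (q₁ : (Scheme.Modules.pullback k).obj ΩW ⟶ Z)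
      (w₀ : a ≫ q₀ = 0) (w₁ : b ≫ q₁ = 0), a ≫ φW = φV ≫ b ∧ φW ≫ q₁ = q₀ ∧
      (ShortComplex.mk a q₀ w₀).ShortExact ∧ (ShortComplex.mk b q₁ w₁).ShortExact := by
  obtain ⟨ΩP, dP, hP⟩ := K583.ExistsUniv.exists_isUniversal p
  have hfP : FlatMod.IsFinLocFree ΩP := isFinLocFree_of_isFormallySmoothHom p
    (Groth.Agent.Flat2H.FSSmoothHom.isFormallySmoothHom_of_smooth p) hP
  obtain ⟨φP, hφP⟩ := exists_isConormalDiff k dP
  let c₁ := diffMap (f := g) (f' := p ≫ g) (h := p) (b := 𝟙 Y) (by rw [Category.comp_id]) hV dW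
  have hc₁ : IsDiffCompat p dV dW c₁ := isDiffCompat_diffMap _ hV dW
  let c₂ := diffMap (f := p ≫ g) (f' := p) (h := 𝟙 W) (b := g) (by rw [Category.id_comp]) hW dP
  have hc₂ : IsDiffCompat (𝟙 W) dW dP c₂ := isDiffCompat_diffMap _ hW dP
  let ψ := Groth.Agent.Grpsch.ConormalIso.conormalMap (i := k ≫ p) (i' := k) (g := p) (h := 𝟙 X)
    (by rw [Category.id_comp])
  have hψ : IsConormalMap k (k ≫ p) p (𝟙 X) ψ := isConormalMap _
  obtain ⟨w₀, h₀⟩ := Groth.Agent.S9711.result p k (k ≫ p) rfl ΩP dP hP ψ hψ φP hφP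
  obtain ⟨w₁, h₁⟩ := shortExact_trans p hV hW hP hc₁ hc₂
  have h₁' := Groth.Agent.Krr.H496.PullK0.shortExact_pullback_of_isFinLocFree k h₁ hfP
  refine ⟨(Scheme.Modules.pullback k).obj ΩP, Groth.Agent.PerfB.FlatPull.isFinLocFree_pullback k hfP,
    con k p ψ, pull k p c₁, φP, (Scheme.Modules.pullback k).map
      ((Scheme.Modules.pullbackId W).inv.app ΩW ≫ c₂), ?_, ?_, con_comp k p hψ hc₁ hφV hφW,
      conDiff_comp k p hc₂ hφW hφP, ?_, ?_⟩
  · rw [con, Category.assoc, w₀, comp_zero]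
  · rw [pull, Category.assoc, ← Functor.map_comp, w₁, Functor.map_zero, comp_zero]
  · refine ShortComplex.shortExact_of_iso (?_ : ShortComplex.mk ψ φP w₀ ≅ _) h₀
    refine ShortComplex.isoMk
      ((Scheme.Modules.pullbackId X).app (Omega.conormal (k ≫ p))) (Iso.refl _) (Iso.refl _) ?_ ?_
    · simp [con]
    · simp
  · refine ShortComplex.shortExact_of_iso (?_ : (ShortComplex.mk c₁
      ((Scheme.Modules.pullbackId W).inv.app ΩW ≫ c₂) w₁).map (Scheme.Modules.pullback k) ≅ _) h₁'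
    refine ShortComplex.isoMk
      ((Scheme.Modules.pullbackComp k p).app ΩV) (Iso.refl _) (Iso.refl _) ?_ ?_
    · exact (Iso.hom_inv_id_app_assoc (Scheme.Modules.pullbackComp k p) ΩV _).trans
        (Category.comp_id _).symm
    · exact (Category.id_comp _).trans (Category.comp_id _).symm

/-- Two factorisations through smooth morphisms are dominated by a third one. -/
theorem exists_common {V' : Scheme.{u}} {g : V ⟶ Y} {g' : V' ⟶ Y} [Smooth g] [Smooth g'] {i : X ⟶ V}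
    [IsClosedImmersion i] {i' : X ⟶ V'} (w : i ≫ g = i' ≫ g') :
    ∃ (W : Scheme.{u}) (k : X ⟶ W) (p : W ⟶ V) (p' : W ⟶ V'), IsClosedImmersion k ∧ Smooth p ∧
      Smooth p' ∧ k ≫ p = i ∧ k ≫ p' = i' ∧ p ≫ g = p' ≫ g' := by
  let k₀ : X ⟶ pullback g g' := pullback.lift i i' w
  have h1 : IsImmersion (k₀ ≫ pullback.fst g g') := by
    rw [pullback.lift_fst]
    infer_instance
  have h2 : IsImmersion k₀ := IsImmersion.of_comp k₀ (pullback.fst g g')
  refine ⟨k₀.coborderRange, k₀.liftCoborder, k₀.coborderRange.ι ≫ pullback.fst g g',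
    k₀.coborderRange.ι ≫ pullback.snd g g', inferInstance, inferInstance, inferInstance, ?_, ?_, ?_⟩
  · rw [Scheme.Hom.liftCoborder_ι_assoc, pullback.lift_fst]
  · rw [Scheme.Hom.liftCoborder_ι_assoc, pullback.lift_snd]
  · rw [Category.assoc, Category.assoc, pullback.condition]

/-- Version of `exists_ses` with propositional composites. -/
theorem exists_ses' (k : X ⟶ W) [IsImmersion k] [QuasiCompact k] (p : W ⟶ V) [Smooth p]
    {i : X ⟶ V} [IsImmersion i] [QuasiCompact i] (hi : k ≫ p = i) {g : V ⟶ Y} {h : W ⟶ Y}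
    (hh : p ≫ g = h) {ΩV : V.Modules} {dV : Der g ΩV}
    (hV : IsUniversal dV) {ΩW : W.Modules} {dW : Der h ΩW} (hW : IsUniversal dW)
    {φV : Omega.conormal i ⟶ (Scheme.Modules.pullback i).obj ΩV} (hφV : IsConormalDiff i dV φV)
    {φW : Omega.conormal k ⟶ (Scheme.Modules.pullback k).obj ΩW} (hφW : IsConormalDiff k dW φW) :
    ∃ (Z : X.Modules) (_ : FlatMod.IsFinLocFree Z) (a : Omega.conormal i ⟶ Omega.conormal k)
      (b : (Scheme.Modules.pullback i).obj ΩV ⟶ (Scheme.Modules.pullback k).obj ΩW)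
      (q₀ : Omega.conormal k ⟶ Z) (q₁ : (Scheme.Modules.pullback k).obj ΩW ⟶ Z)
      (w₀ : a ≫ q₀ = 0) (w₁ : b ≫ q₁ = 0), a ≫ φW = φV ≫ b ∧ φW ≫ q₁ = q₀ ∧
      (ShortComplex.mk a q₀ w₀).ShortExact ∧ (ShortComplex.mk b q₁ w₁).ShortExact := by
  subst hi hh
  exact exists_ses k p hV hW hφV hφW

attribute [local instance] HasDerivedCategory.standard

theorem nonempty_iso (k : X ⟶ W) [IsImmersion k] [QuasiCompact k] (p : W ⟶ V) [Smooth p]
    {i : X ⟶ V} [IsImmersion i] [QuasiCompact i] (hi : k ≫ p = i) {g : V ⟶ Y} {h : W ⟶ Y}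
    (hh : p ≫ g = h) {ΩV : V.Modules} {dV : Der g ΩV}
    (hV : IsUniversal dV) {ΩW : W.Modules} {dW : Der h ΩW} (hW : IsUniversal dW)
    {φV : Omega.conormal i ⟶ (Scheme.Modules.pullback i).obj ΩV} (hφV : IsConormalDiff i dV φV)
    {φW : Omega.conormal k ⟶ (Scheme.Modules.pullback k).obj ΩW} (hφW : IsConormalDiff k dW φW) :
    Nonempty (DerivedCategory.Q.obj (K561.TwoTerm.dbl φV) ≅ DerivedCategory.Q.obj (K561.TwoTerm.dbl φW)) := by
  obtain ⟨Z, hZ, a, b, q₀, q₁, w₀, w₁, h, hq, h₀, h₁⟩ := exists_ses' k p hi hh hV hW hφV hφW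
  exact K561.TwoTerm.nonempty_iso h hq w₀ w₁ h₀ h₁

/-- The cotangent complex of a morphism does not depend on the factorisation. -/
theorem nonempty_iso_of_two {V' : Scheme.{u}} {g : V ⟶ Y} {g' : V' ⟶ Y} [Smooth g] [Smooth g']
    {i : X ⟶ V} [IsClosedImmersion i] {i' : X ⟶ V'} [IsClosedImmersion i'] (w : i ≫ g = i' ≫ g')
    {Ω : V.Modules} {d : Der g Ω} (hd : IsUniversal d) {Ω' : V'.Modules} {d' : Der g' Ω'}
    (hd' : IsUniversal d') {φ : Omega.conormal i ⟶ (Scheme.Modules.pullback i).obj Ω}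
    (hφ : IsConormalDiff i d φ) {φ' : Omega.conormal i' ⟶ (Scheme.Modules.pullback i').obj Ω'}
    (hφ' : IsConormalDiff i' d' φ') :
    Nonempty (DerivedCategory.Q.obj (K561.TwoTerm.dbl φ) ≅ DerivedCategory.Q.obj (K561.TwoTerm.dbl φ')) := by
  obtain ⟨W, k, p, p', hk, hp, hp', h1, h2, h3⟩ := exists_common w
  obtain ⟨ΩW, dW, hW⟩ := K583.ExistsUniv.exists_isUniversal (p ≫ g)
  obtain ⟨φW, hφW⟩ := exists_isConormalDiff k dW
  obtain ⟨e⟩ := nonempty_iso k p h1 rfl hd hW hφ hφW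
  obtain ⟨e'⟩ := nonempty_iso k p' h2 h3.symm hd' hW hφ' hφW
  exact ⟨e ≪≫ e'.symm⟩

end K561.CotComp
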