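import Groth.Agent.Synt.K561.RegImmDict
import Groth.Agent.Flat2H.KoszulDescent

/-!
# Koszul morphisms (factorisation form) are the local complete intersection morphisms
-/

set_option autoImplicit false
universe u
open CategoryTheory CategoryTheory.Limits AlgebraicGeometry

namespace K561.LciDict

open Groth.Agent.Flat2H Groth.Agent.Flat2H.KoszulIdeal Groth.Agent.Flat2H.LCIMaps
  Groth.Agent.Flat2H.LCIMaps2 Groth.Agent.Dual.H375.LciLocus LCI K561.RegImmDict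

variable {X Y Z : Scheme.{u}}

theorem LM_smooth (f : X ⟶ Y) [Smooth f] : LM f := (isLCIMor_iff f).1 (isLCIMor_of_smooth f)

theorem LM_comp {f : X ⟶ Y} {g : Y ⟶ Z} (hf : LM f) (hg : LM g) : LM (f ≫ g) :=
  LCIMaps2.isLocal_isLCI.toMor_comp (fun h1 h2 => IsLCI.trans h1 h2) hf hg

theorem LM_flatBaseChange {X' Y' : Scheme.{u}} {f : X ⟶ Y} {f' : X' ⟶ Y'} {g' : X' ⟶ X} {g : Y' ⟶ Y}
    [Flat g] (hc : IsPullback g' f' f g) (hf : LM f) : LM f' :=
  LCIMaps2.isLocal_isLCI.toMor_flatBaseChange (fun h => IsLCI.baseChange h) hc hf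

theorem LM_descends {X' Y' : Scheme.{u}} {f : X ⟶ Y} {f' : X' ⟶ Y'} {g' : X' ⟶ X} {g : Y' ⟶ Y}
    [Flat g] [Surjective g] [QuasiCompact g] (hc : IsPullback g' f' f g) (hf : LM f') : LM f :=
  LCIMaps2.isLocal_isLCI.toMor_descends (fun h => IsLCI.baseChange h)
    (fun h => Groth.Agent.Flat2H.KoszulDescent.IsLCI.of_faithfullyFlat h) hc hf

theorem LM_iff_exists (f : X ⟶ Y) : LM f ↔ ∀ x : X, ∃ (V : Y.affineOpens) (U : X.affineOpens) (_ : x ∈ U.1)
    (e : U.1 ≤ f ⁻¹ᵁ V.1), AlgProp.toRingHom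
      (fun (A B : Type u) [CommRing A] [CommRing B] [Algebra A B] => IsLCI A B) (f.appLE V.1 U.1 e).hom := by
  rw [HasRingHomProperty.iff_exists_appLE (P := LM) LCIMaps2.isLocal_isLCI.holdsForComp_source]

/-- Cancellation for immersions into smooth schemes. -/
theorem LM_of_comp_smooth_of_isImmersion (i : X ⟶ Z) [IsImmersion i] (p : Z ⟶ Y) [Smooth p]
    (h : LM (i ≫ p)) : LM i := by
  rw [LM_iff_exists]
  intro x
  obtain ⟨V, hV, hxV, -⟩ := exists_isAffineOpen_mem_and_subset (x := p (i x)) (U := ⊤) trivial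
  obtain ⟨W, hW, hxW, hWV, hc⟩ := exists_affine_closed i x (p ⁻¹ᵁ V) hxV
  obtain ⟨h1, h2⟩ := (isClosedImmersion_restrict_iff i W hW).1 hc
  refine ⟨⟨W, hW⟩, ⟨i ⁻¹ᵁ W, h1⟩, hxW, le_rfl, ?_⟩
  rw [Scheme.Hom.appLE_eq_app, toRingHom_iff_kerK _ h2]
  have e' : i ⁻¹ᵁ W ≤ (i ≫ p) ⁻¹ᵁ V := i.preimage_mono hWV
  have h3 := h (i ⁻¹ᵁ W) V h1 hV e'
  let : Algebra Γ(Y, V) Γ(X, i ⁻¹ᵁ W) := ((i ≫ p).appLE V (i ⁻¹ᵁ W) e').hom.toAlgebra
  let : Algebra Γ(Y, V) Γ(Z, W) := (p.appLE V W hWV).hom.toAlgebra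
  have hsm : Algebra.Smooth Γ(Y, V) Γ(Z, W) :=
    HasRingHomProperty.appLE (P := @Smooth) p inferInstance ⟨V, hV⟩ ⟨W, hW⟩ hWV
  let φ : Γ(Z, W) →ₐ[Γ(Y, V)] Γ(X, i ⁻¹ᵁ W) :=
    { (i.app W).hom with
      commutes' := fun a => by
        change i.app W (p.appLE V W hWV a) = (i ≫ p).appLE V (i ⁻¹ᵁ W) e' a
        rw [← Scheme.Hom.appLE_comp_appLE i p V W (i ⁻¹ᵁ W) hWV le_rfl, Scheme.Hom.app_eq_appLE]
        rfl }
  exact Groth.Agent.Dual.H366.SmoothLCI.isKoszulRegularIdeal_ker_of_smooth h3 φ h2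

theorem LM_id (X : Scheme.{u}) : LM (𝟙 X) := LM_smooth _

/-- Cancellation: if `i ≫ p` is lci and `p` is smooth then `i` is lci. -/
theorem LM_of_comp_smooth (i : X ⟶ Z) (p : Z ⟶ Y) [Smooth p] (h : LM (i ≫ p)) : LM i := by
  let γ : X ⟶ pullback (i ≫ p) p := pullback.lift (𝟙 X) i (by simp)
  have h1 : γ ≫ pullback.fst (i ≫ p) p = 𝟙 X := pullback.lift_fst _ _ _
  have h2 : γ ≫ pullback.snd (i ≫ p) p = i := pullback.lift_snd _ _ _
  have h3 : IsImmersion (γ ≫ pullback.fst (i ≫ p) p) := by rw [h1]; infer_instance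
  have h4 : IsImmersion γ := IsImmersion.of_comp γ (pullback.fst (i ≫ p) p)
  have h5 : LM γ := LM_of_comp_smooth_of_isImmersion γ (pullback.fst (i ≫ p) p) (by rw [h1]; exact LM_id X)
  have h6 : LM (pullback.snd (i ≫ p) p) := LM_flatBaseChange (IsPullback.of_hasPullback (i ≫ p) p) h
  rw [← h2]
  exact LM_comp h5 h6

theorem LM_comp_smooth_iff (i : X ⟶ Z) (p : Z ⟶ Y) [Smooth p] : LM (i ≫ p) ↔ LM i :=
  ⟨LM_of_comp_smooth i p, fun h => LM_comp h (LM_smooth p)⟩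

/-- near every point, an lci morphism factors as a Koszul-regular (closed) immersion followed by a smooth morphism. -/
theorem exists_factorisation (f : X ⟶ Y) (hf : LM f) (x : X) (W : X.Opens) (hx : x ∈ W) :
    ∃ (U : X.Opens) (P : Scheme.{u}) (i : (U : Scheme.{u}) ⟶ P) (π : P ⟶ Y), x ∈ U ∧ U ≤ W ∧ IsAffineOpen U ∧
      IsAffine P ∧ IsClosedImmersion i ∧ Smooth π ∧ i ≫ π = U.ι ≫ f := by
  obtain ⟨V, hV, hxV, -⟩ := exists_isAffineOpen_mem_and_subset (x := f x) (U := ⊤) trivial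
  obtain ⟨U, hU, hxU, hle⟩ := exists_isAffineOpen_mem_and_subset (x := x) (U := f ⁻¹ᵁ V ⊓ W) ⟨hxV, hx⟩
  have e : U ≤ f ⁻¹ᵁ V := fun y hy => (hle hy).1
  let : Algebra Γ(Y, V) Γ(X, U) := (f.appLE V U e).hom.toAlgebra
  obtain ⟨-, n, φ, hφ, -⟩ := hf U V hU hV e
  let A : CommRingCat.{u} := Γ(Y, V)
  let P : CommRingCat.{u} := CommRingCat.of (MvPolynomial (Fin n) Γ(Y, V))
  let c : A ⟶ P := CommRingCat.ofHom MvPolynomial.C
  let φ' : P ⟶ Γ(X, U) := CommRingCat.ofHom φ.toRingHom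
  have hc : c ≫ φ' = f.appLE V U e := by
    ext a
    exact φ.commutes a
  refine ⟨U, Spec P, hU.isoSpec.hom ≫ Spec.map φ', Spec.map c ≫ hV.fromSpec, hxU, fun y hy => (hle hy).2, hU,
    inferInstance, ?_, ?_, ?_⟩
  · have : IsClosedImmersion (Spec.map φ') := IsClosedImmersion.spec_of_surjective φ' hφ
    infer_instance
  · have : Smooth (Spec.map c) := by
      rw [HasRingHomProperty.Spec_iff (P := @Smooth)]
      change (algebraMap Γ(Y, V) (MvPolynomial (Fin n) Γ(Y, V))).Smooth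
      rw [RingHom.smooth_algebraMap]
      exact ⟨inferInstance, inferInstance⟩
    infer_instance
  · rw [Category.assoc, ← Spec.map_comp_assoc, hc, IsAffineOpen.SpecMap_appLE_fromSpec f hV hU e,
      IsAffineOpen.isoSpec_hom_fromSpec_assoc]

/-- The comparison theorem. -/
theorem forall_isKoszulAt_iff (f : X ⟶ Y) : (∀ x : X, Synt.IsKoszulAt f x) ↔ LM f := by
  constructor
  · intro h
    rw [← isLCIMor_iff]
    refine isLCIMor_of_cover f fun x => ?_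
    obtain ⟨U, P, i, π, hx, -, hi, hπ, he⟩ := h x
    refine ⟨U, hx, ?_⟩
    rw [isLCIMor_iff, ← he]
    exact LM_comp ((isRegularImmersion_koszul_iff i).1 hi).2 (LM_smooth π)
  · intro h x
    obtain ⟨U, P, i, π, hx, -, -, -, hi, hπ, he⟩ := exists_factorisation f h x ⊤ trivial
    refine ⟨U, P, i, π, hx, ?_, ?_, hπ, he⟩
    · rw [← he]; infer_instance
    · rw [isRegularImmersion_koszul_iff]
      refine ⟨inferInstance, LM_of_comp_smooth i π ?_⟩
      rw [he]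
      exact IsZariskiLocalAtSource.comp h U.ι

end K561.LciDict
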