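import Groth.Prelude.Def_RegImm
import Groth.Agent.Grpsch.ImmLocus
import Groth.Agent.Ega2.ImmCrit
import Groth.Agent.Dual.H375.LciLocus
import Groth.Agent.Dual.H366.SmoothLCI
import Groth.Agent.Flat2H.KoszulDescent

/-!
# Koszul-regular immersions are the immersions that are local complete intersection morphisms
-/

set_option autoImplicit false
universe u
open CategoryTheory CategoryTheory.Limits AlgebraicGeometry

namespace K561.RegImmDict

open Groth.Agent.Flat2H Groth.Agent.Flat2H.KoszulIdeal Groth.Agent.Flat2H.LCIMaps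
  Groth.Agent.Flat2H.LCIMaps2 Groth.Agent.Dual.H375.LciLocus LCI

section Ring

variable {R B : Type u} [CommRing R] [CommRing B]

/-- A surjective ring map is a local complete intersection iff its kernel is Koszul-regular. -/
theorem isLCI_iff_kerK [Algebra R B] (h : Function.Surjective (algebraMap R B)) :
    IsLCI R B ↔ IsKoszulRegularIdeal (RingHom.ker (algebraMap R B)) := by
  have e : R ≃ₐ[R] MvPolynomial (Fin 0) R := (MvPolynomial.isEmptyAlgEquiv R (Fin 0)).symm
  constructor
  · intro H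
    exact IsLCI.kerK_of_equiv H e (Algebra.ofId R B) h
  · intro H
    exact isLCI_of_kerK_of_equiv e (Algebra.ofId R B) h H

theorem toRingHom_iff_kerK (π : R →+* B) (h : Function.Surjective π) :
    AlgProp.toRingHom (fun (A B : Type u) [CommRing A] [CommRing B] [Algebra A B] => IsLCI A B) π ↔
      IsKoszulRegularIdeal (RingHom.ker π) := by
  let := π.toAlgebra
  exact isLCI_iff_kerK h

end Ring

theorem notMem_primeIdealOf_iff {Y : Scheme.{u}} {U : Y.Opens} (hU : IsAffineOpen U) (y : U) (g : Γ(Y, U)) :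
    g ∉ (hU.primeIdealOf y).asIdeal ↔ y.1 ∈ Y.basicOpen g := by
  rw [hU.primeIdealOf_eq_map_closedPoint y]
  change Y.presheaf.germ U y.1 y.2 g ∉ IsLocalRing.maximalIdeal _ ↔ _
  rw [IsLocalRing.notMem_maximalIdeal]
  exact (Y.mem_basicOpen g y.1 y.2).symm

variable {Z X : Scheme.{u}} (i : Z ⟶ X)

theorem exists_opens_eq {X : Scheme.{u}} (U V : X.Opens) (hVU : V ≤ U) :
    ∃ V' : U.toScheme.Opens, U.ι ''ᵁ V' = V := by
  refine ⟨U.ι ⁻¹ᵁ V, ?_⟩
  rw [Scheme.Hom.image_preimage_eq_opensRange_inf, Scheme.Opens.opensRange_ι]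
  exact inf_eq_right.mpr hVU

/-- A morphism that is a closed immersion over `U` is surjective on sections over affine opens of `U`. -/
theorem app_surjective {X Y : Scheme.{u}} (f : Y ⟶ X) (U : X.Opens) (hfU : IsClosedImmersion (f ∣_ U))
    (V : X.Opens) (hV : IsAffineOpen V) (hVU : V ≤ U) : Function.Surjective (f.app V).hom := by
  obtain ⟨V', rfl⟩ := exists_opens_eq U V hVU
  rw [Scheme.Hom.isAffineOpen_iff_of_isOpenImmersion U.ι] at hV
  have h1 := Scheme.Hom.app_surjective (f ∣_ U) V' hV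
  rw [morphismRestrict_app] at h1
  have h2 : Function.Bijective (Y.presheaf.map (eqToHom (image_morphismRestrict_preimage f U V')).op) :=
    ConcreteCategory.bijective_of_isIso _
  intro y
  obtain ⟨x, hx⟩ := h1 (Y.presheaf.map (eqToHom (image_morphismRestrict_preimage f U V')).op y)
  exact ⟨x, h2.1 hx⟩

/-- `i` is a closed immersion over the affine open `U`. -/
theorem isClosedImmersion_restrict_iff (U : X.Opens) (hU : IsAffineOpen U) :
    IsClosedImmersion (i ∣_ U) ↔ IsAffineOpen (i ⁻¹ᵁ U) ∧ Function.Surjective (i.app U) := by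
  constructor
  · intro h
    have : IsAffine U := hU
    exact ⟨(IsClosedImmersion.isAffine_surjective_of_isAffine (i ∣_ U)).1,
      app_surjective i U h U hU le_rfl⟩
  · rintro ⟨h1, h2⟩
    exact Groth.Agent.Ega2.ImmCrit.isClosedImmersion_restrict_of_affine i U hU h1 h2

theorem ker_basicOpen {U : X.Opens} (hU : IsAffineOpen U) (h : IsClosedImmersion (i ∣_ U)) (g : Γ(X, U)) :
    IsClosedImmersion (i ∣_ (X.basicOpen g)) ∧
      RingHom.ker (i.app (X.basicOpen g)).hom =
        (RingHom.ker (i.app U).hom).map (X.presheaf.map (homOfLE (X.basicOpen_le g)).op).hom := by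
  obtain ⟨h1, h2⟩ := (isClosedImmersion_restrict_iff i U hU).1 h
  have hpre : i ⁻¹ᵁ (X.basicOpen g) = Z.basicOpen (i.app U g) := Scheme.preimage_basicOpen i g
  have hD := hU.basicOpen g
  have h3 : IsAffineOpen (i ⁻¹ᵁ (X.basicOpen g)) := by
    rw [hpre]
    exact h1.basicOpen _
  have hs : Function.Surjective (i.app (X.basicOpen g)) :=
    app_surjective i U h _ hD (X.basicOpen_le g)
  refine ⟨(isClosedImmersion_restrict_iff i _ hD).2 ⟨h3, hs⟩, ?_⟩
  -- localizations
  let : Algebra Γ(X, U) Γ(X, X.basicOpen g) :=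
    (X.presheaf.map (homOfLE (X.basicOpen_le g)).op).hom.toAlgebra
  have l1 : IsLocalization.Away g Γ(X, X.basicOpen g) := hU.isLocalization_basicOpen g
  have hle : i ⁻¹ᵁ (X.basicOpen g) ≤ i ⁻¹ᵁ U := i.preimage_mono (X.basicOpen_le g)
  let : Algebra Γ(Z, i ⁻¹ᵁ U) Γ(Z, i ⁻¹ᵁ (X.basicOpen g)) :=
    (Z.presheaf.map (homOfLE hle).op).hom.toAlgebra
  have l2 : IsLocalization.Away ((i.app U).hom g) Γ(Z, i ⁻¹ᵁ (X.basicOpen g)) :=
    h1.isLocalization_of_eq_basicOpen _ _ hpre
  have hT : Submonoid.map (i.app U).hom (Submonoid.powers g) = Submonoid.powers ((i.app U).hom g) :=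
    Submonoid.map_powers _ _
  have h4 := IsLocalization.ker_map (M := Submonoid.powers g) (S := Γ(X, X.basicOpen g))
    (Γ(Z, i ⁻¹ᵁ (X.basicOpen g))) (i.app U).hom hT
  have h5 : (i.app (X.basicOpen g)).hom = IsLocalization.map (Γ(Z, i ⁻¹ᵁ (X.basicOpen g))) (i.app U).hom
      (hT.symm ▸ (Submonoid.powers g).le_comap_map) := by
    refine IsLocalization.ringHom_ext (Submonoid.powers g) ?_
    rw [IsLocalization.map_comp]
    exact congrArg CommRingCat.Hom.hom (i.naturality (homOfLE (X.basicOpen_le g)).op)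
  rw [h5, h4]
  rfl

/-- an immersion is, near every point, a closed immersion over small affine opens. -/
theorem exists_affine_closed [IsImmersion i] (z : Z) (W : X.Opens) (hz : i z ∈ W) :
    ∃ U : X.Opens, IsAffineOpen U ∧ i z ∈ U ∧ U ≤ W ∧ IsClosedImmersion (i ∣_ U) := by
  have h0 : i z ∈ i.coborderRange := by
    change i z ∈ coborder (Set.range i)
    exact subset_coborder ⟨z, rfl⟩
  obtain ⟨U, hU, hzU, hle⟩ := exists_isAffineOpen_mem_and_subset (x := i z) (U := W ⊓ i.coborderRange) ⟨hz, h0⟩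
  refine ⟨U, hU, hzU, fun x hx => (hle hx).1, ?_⟩
  refine Groth.Agent.Grpsch.ImmLocus.isClosedImmersion_restrict i U fun y hy hy' => ?_
  have h1 : y ∈ coborder (Set.range i) := (hle hy).2
  rw [coborder, Set.mem_compl_iff, Set.mem_sdiff, not_and, not_not] at h1
  exact h1 hy'

theorem regularImmersionAt_iff [IsImmersion i] (z : Z) :
    RegImm.IsRegularImmersionAt .koszul i z ↔
      ∃ U : X.affineOpens, i z ∈ U.1 ∧ IsClosedImmersion (i ∣_ U.1) ∧ GenK (RingHom.ker (i.app U.1).hom) := by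
  rfl

/-- A Koszul-regular immersion is an immersion that is a local complete intersection morphism. -/
theorem isRegularImmersion_koszul_iff :
    RegImm.IsRegularImmersion .koszul i ↔ IsImmersion i ∧ LM i := by
  constructor
  · rintro ⟨h, hi⟩
    refine ⟨h, ?_⟩
    rw [HasRingHomProperty.iff_exists_appLE (P := LM) LCIMaps2.isLocal_isLCI.holdsForComp_source]
    intro z
    obtain ⟨U, hz, hc, l, hl, hk⟩ := hi z
    obtain ⟨h1, h2⟩ := (isClosedImmersion_restrict_iff i U.1 U.2).1 hc
    refine ⟨U, ⟨i ⁻¹ᵁ U.1, h1⟩, hz, le_rfl, ?_⟩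
    rw [Scheme.Hom.appLE_eq_app, toRingHom_iff_kerK _ h2]
    exact GenK.isKoszulRegularIdeal ⟨l, hl, hk⟩
  · rintro ⟨h, hi⟩
    refine ⟨h, fun z => ?_⟩
    obtain ⟨U, hU, hz, -, hc⟩ := exists_affine_closed i z ⊤ trivial
    obtain ⟨h1, h2⟩ := (isClosedImmersion_restrict_iff i U hU).1 hc
    have h3 : IsKoszulRegularIdeal (RingHom.ker (i.app U).hom) := by
      rw [← toRingHom_iff_kerK _ h2]
      have := hi (i ⁻¹ᵁ U) U h1 hU le_rfl
      rw [Scheme.Hom.appLE_eq_app] at this
      exact this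
    obtain ⟨g, hg, h4⟩ := IsKoszulRegularIdeal.exists_genK h3 (hU.primeIdealOf ⟨i z, hz⟩).asIdeal
    have hzg : i z ∈ X.basicOpen g := (notMem_primeIdealOf_iff hU ⟨i z, hz⟩ g).1 hg
    refine ⟨⟨X.basicOpen g, hU.basicOpen g⟩, hzg, (ker_basicOpen i hU hc g).1, ?_⟩
    change GenK _
    rw [(ker_basicOpen i hU hc g).2]
    let : Algebra Γ(X, U) Γ(X, X.basicOpen g) :=
      (X.presheaf.map (homOfLE (X.basicOpen_le g)).op).hom.toAlgebra
    have l1 : IsLocalization.Away g Γ(X, X.basicOpen g) := hU.isLocalization_basicOpen g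
    have : Module.Flat Γ(X, U) Γ(X, X.basicOpen g) := IsLocalization.flat _ (Submonoid.powers g)
    exact h4 Γ(X, X.basicOpen g) (IsLocalization.Away.algebraMap_isUnit g)

end K561.RegImmDict
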