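import Groth.Agent.Synt.K561.LciFibre
import Groth.Agent.Synt.K563.Syn
import Groth.Agent.Ega4B.FibLoc

/-!
# Syntomic ring maps and local complete intersections
-/

set_option autoImplicit false
universe u
open CategoryTheory CategoryTheory.Limits AlgebraicGeometry

namespace K561.SynLci

open Groth.Agent.Flat2H Groth.Agent.Flat2H.KoszulIdeal Groth.Agent.Flat2H.LCIMaps
  Groth.Agent.Flat2H.LCIMaps2 Groth.Agent.Dual.H375.LciLocus LCI K561.RegImmDict K561.LciDict
open Groth.Agent.Ega4dB.FiberStalk Groth.Agent.Ega4dB.CITransport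

variable {A B : Type u} [CommRing A] [CommRing B] [Algebra A B]

theorem nonempty_equiv_of_arrow {R S R' S' : CommRingCat.{u}} (f : R ⟶ S) (g : R' ⟶ S')
    [IsLocalRing R] [IsLocalRing R'] (e : Arrow.mk f ≅ Arrow.mk g) :
    Nonempty ((S ⧸ (IsLocalRing.maximalIdeal R).map f.hom) ≃+*
      (S' ⧸ (IsLocalRing.maximalIdeal R').map g.hom)) := by
  let eR : R ≅ R' := Arrow.leftFunc.mapIso e
  let eS : S ≅ S' := Arrow.rightFunc.mapIso e
  have hw : eR.hom ≫ g = f ≫ eS.hom := e.hom.w
  refine ⟨Ideal.quotientEquiv _ _ eS.commRingCatIsoToRingEquiv ?_⟩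
  have h1 : (IsLocalRing.maximalIdeal R).map eR.hom.hom = IsLocalRing.maximalIdeal R' :=
    IsLocalRing.map_ringEquiv_maximalIdeal eR.commRingCatIsoToRingEquiv
  rw [← h1, Ideal.map_map]
  have h2 : g.hom.comp eR.hom.hom = (eS.commRingCatIsoToRingEquiv : S →+* S').comp f.hom :=
    congrArg CommRingCat.Hom.hom hw
  rw [h2, ← Ideal.map_map]

/-- The local ring at `x` of the fibre of `Spec B → Spec A` is `B_q / p B_q`. -/
theorem nonempty_fibLocRing_spec (x : PrimeSpectrum B) :
    Nonempty (EGA4.FibLocRing A B x.asIdeal ≃+*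
      CInt.fiberStalk (Spec.map (CommRingCat.ofHom (algebraMap A B))) x) := by
  let f := Spec.map (CommRingCat.ofHom (algebraMap A B))
  have hL : IsLocalRing (CommRingCat.of (Localization.AtPrime (x.comap (algebraMap A B)).asIdeal)) :=
    inferInstanceAs (IsLocalRing (Localization.AtPrime (x.comap (algebraMap A B)).asIdeal))
  obtain ⟨e⟩ := nonempty_equiv_of_arrow (R := (Spec (CommRingCat.of A)).presheaf.stalk (f x)) _ _
    (Scheme.arrowStalkMapSpecIso (CommRingCat.ofHom (algebraMap A B)) x)
  have key : (IsLocalRing.maximalIdeal (Localization.AtPrime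
      (x.comap (algebraMap A B)).asIdeal)).map (Localization.localRingHom
      (x.comap (algebraMap A B)).asIdeal x.asIdeal (algebraMap A B) rfl) =
      (x.asIdeal.comap (algebraMap A B)).map
        (algebraMap A (Localization.AtPrime x.asIdeal)) := by
    rw [← Localization.AtPrime.map_eq_maximalIdeal, Ideal.map_map]
    congr 1
    ext a
    exact (Localization.localRingHom_to_map _ _ _ rfl a).trans
      (IsScalarTower.algebraMap_apply A B _ a).symm
  exact ⟨((Ideal.quotEquivOfEq key.symm).trans e.symm).trans (fiberStalkEquiv f x)⟩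

/-- The local ring of the fibre ring at a prime. -/
theorem nonempty_fibLocRing_fiber (p : Ideal A) [p.IsPrime] (q : Ideal (p.Fiber B)) [q.IsPrime] :
    Nonempty (Localization.AtPrime q ≃+* EGA4.FibLocRing A B
      (q.comap (Algebra.TensorProduct.includeRight : B →ₐ[A] p.Fiber B))) := by
  have h1 : (q.comap (Algebra.TensorProduct.includeRight : B →ₐ[A] p.Fiber B)).comap
      (algebraMap A B) = p :=
    congrArg PrimeSpectrum.asIdeal
      ((PrimeSpectrum.preimageEquivFiber A B ⟨p, inferInstance⟩).symm ⟨q, inferInstance⟩).2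
  have e := Ideal.Fiber.algEquivAux₂ p q
  refine ⟨e.toRingEquiv.trans (Ideal.quotEquivOfEq ?_)⟩
  rw [Ideal.map_map, ← IsScalarTower.algebraMap_eq, h1]

/-- The fibre condition in the definition of syntomic ring maps in terms of the local rings of the
fibres of `Spec B → Spec A`. -/
theorem fibre_iff : (∀ (p : Ideal A) [p.IsPrime] (q : Ideal (p.Fiber B)) [q.IsPrime],
      Pi1.IsCompleteIntersection (Localization.AtPrime q)) ↔
    ∀ x : PrimeSpectrum B, Pi1.IsCompleteIntersection
      (CInt.fiberStalk (Spec.map (CommRingCat.ofHom (algebraMap A B))) x) := by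
  constructor
  · intro h x
    obtain ⟨q', hq', -, ⟨e⟩⟩ := Groth.Agent.Ega4B.FibLoc.exists_fibLocRing_equiv A B x.asIdeal
    obtain ⟨e'⟩ := nonempty_fibLocRing_spec (A := A) x
    exact (isCompleteIntersection_iff_of_ringEquiv (e.trans e')).1 (h _ q')
  · intro h p _ q _
    obtain ⟨e⟩ := nonempty_fibLocRing_fiber p q
    obtain ⟨e'⟩ := nonempty_fibLocRing_spec (A := A)
      (⟨q.comap (Algebra.TensorProduct.includeRight : B →ₐ[A] p.Fiber B), inferInstance⟩ : PrimeSpectrum B)
    exact (isCompleteIntersection_iff_of_ringEquiv (e.trans e')).2 (h _)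

/-- `A → B` is syntomic iff `B` is flat, of finite presentation and the local rings of the fibres are
complete intersections. -/
theorem isSyntomic_iff_fiberStalk : Synt.IsSyntomic A B ↔ Module.Flat A B ∧
    Algebra.FinitePresentation A B ∧ ∀ x : PrimeSpectrum B, Pi1.IsCompleteIntersection
      (CInt.fiberStalk (Spec.map (CommRingCat.ofHom (algebraMap A B))) x) := by
  rw [K563.Syn.isSyntomic_iff, fibre_iff]

theorem LM_spec_iff : LM (Spec.map (CommRingCat.ofHom (algebraMap A B))) ↔ IsLCI A B := by
  rw [HasRingHomProperty.Spec_iff (P := LM)]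
  exact AlgProp.toRingHom_algebraMap _

theorem finitePresentation_of_isLCI (h : IsLCI A B) : Algebra.FinitePresentation A B := by
  obtain ⟨-, n, φ, hφ, hk⟩ := h
  have h1 := Groth.Agent.Flat2H.KoszulDescent.IsKoszulRegularIdeal.fg hk
  exact Algebra.FinitePresentation.of_surjective hφ h1

/-- A ring map is syntomic iff it is flat and a local complete intersection. -/
theorem isSyntomic_iff_isLCI : Synt.IsSyntomic A B ↔ Module.Flat A B ∧ IsLCI A B := by
  rw [isSyntomic_iff_fiberStalk]
  let f := Spec.map (CommRingCat.ofHom (algebraMap A B))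
  have hfl (_ : Module.Flat A B) : Flat f := by
    rw [HasRingHomProperty.Spec_iff (P := @Flat)]
    exact RingHom.flat_algebraMap_iff.mpr inferInstance
  have hfp (_ : Algebra.FinitePresentation A B) : LocallyOfFinitePresentation f := by
    rw [HasRingHomProperty.Spec_iff (P := @LocallyOfFinitePresentation)]
    exact RingHom.finitePresentation_algebraMap.mpr inferInstance
  constructor
  · rintro ⟨h1, h2, h3⟩
    have := hfl h1
    have := hfp h2
    exact ⟨h1, LM_spec_iff.mp (K561.LciFibre.LM_of_ci_fiberStalk f h3)⟩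
  · rintro ⟨h1, h2⟩
    have h3 := finitePresentation_of_isLCI h2
    have := hfl h1
    have := hfp h3
    exact ⟨h1, h3, fun x => K561.LciFibre.ci_fiberStalk f (LM_spec_iff.mpr h2) x⟩

end K561.SynLci
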