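import Groth.Agent.Synt.K561.LciDict
import Groth.Agent.Dual.H366.LciImm
import Groth.Agent.Ega4dB.RelCI3
import Groth.Agent.S2166
import Groth.Agent.S1494
import Groth.Agent.Flat2D.LfpComp

/-!
# Flat local complete intersection morphisms and complete intersection fibres
-/

set_option autoImplicit false
universe u
open CategoryTheory CategoryTheory.Limits AlgebraicGeometry

namespace K561.LciFibre

open Groth.Agent.Flat2H Groth.Agent.Flat2H.KoszulIdeal Groth.Agent.Flat2H.LCIMaps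
  Groth.Agent.Flat2H.LCIMaps2 Groth.Agent.Dual.H375.LciLocus LCI K561.RegImmDict K561.LciDict
open Groth.Agent.Divis.CartierBasic Groth.Agent.Divis.CartierStalk Groth.Agent.Divis.RegImm
open Groth.Agent.Ega4dB.FiberStalk Groth.Agent.Ega4dB.RelCI1 Groth.Agent.Ega4dB.RelCI2
open Groth.Agent.Ega4dB.RelCI3 Groth.Agent.Ega4dB.CITransport

/-- The local rings of a local complete intersection over a field are complete intersections. -/
theorem ci_stalk_of_field {k : CommRingCat.{u}} (hk : IsField k) {F : Scheme.{u}} (g : F ⟶ Spec k)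
    (h : LM g) (z : F) : Pi1.IsCompleteIntersection (F.presheaf.stalk z) := by
  obtain ⟨U, P, i, π, hz, -, -, -, hi, hπ, he⟩ := exists_factorisation g h z ⊤ trivial
  have hP : IsLocallyNoetherian P := isLocallyNoetherian_of_field hk π
  have h1 : Dual3.IsLCIMor (i ≫ π) := by
    rw [isLCIMor_iff, he]
    exact IsZariskiLocalAtSource.comp h U.ι
  have h2 := Groth.Agent.Dual.H366.LciImm.regAt i π h1 ⟨z, hz⟩
  have h3 := isRegularIdeal_stalkIdeal h2 (mem_support_ker i ⟨z, hz⟩)
  have h4 : IsRegularLocalRing (P.presheaf.stalk (i ⟨z, hz⟩)) := isRegular_of_smooth hk π _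
  let e : (P.presheaf.stalk (i ⟨z, hz⟩) ⧸ stalkIdeal i.ker (i ⟨z, hz⟩)) ≃+*
      (U : Scheme.{u}).presheaf.stalk ⟨z, hz⟩ :=
    (Ideal.quotEquivOfEq (ker_stalkMap i ⟨z, hz⟩).symm).trans
      (RingHom.quotientKerEquivOfSurjective (f := (i.stalkMap ⟨z, hz⟩).hom) (i.stalkMap_surjective _))
  let e' : F.presheaf.stalk (U.ι ⟨z, hz⟩) ≃+* (U : Scheme.{u}).presheaf.stalk ⟨z, hz⟩ :=
    (asIso (U.ι.stalkMap ⟨z, hz⟩)).commRingCatIsoToRingEquiv
  have h5 : IsLocalRing (P.presheaf.stalk (i ⟨z, hz⟩) ⧸ stalkIdeal i.ker (i ⟨z, hz⟩)) :=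
    e.symm.isLocalRing
  have h6 : stalkIdeal i.ker (i ⟨z, hz⟩) ≠ ⊤ := by
    intro h
    have := h5.toNontrivial
    rw [Ideal.Quotient.nontrivial_iff] at this
    exact this h
  have h7 := (isCompleteIntersection_iff_of_ringEquiv (e.trans e'.symm)).1
    ((Groth.Agent.S2166.result _ h6).2 (by
      obtain ⟨rs, hrs, hrs'⟩ := h3
      exact ⟨rs, hrs', hrs⟩))
  exact h7

/-- The fibres of a flat local complete intersection are local complete intersections. -/
theorem LM_fiber {X Y : Scheme.{u}} (f : X ⟶ Y) [Flat f] [LocallyOfFinitePresentation f] (hf : LM f) (s : Y) :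
    LM (f.fiberToSpecResidueField s) := by
  have hpb := IsPullback.of_hasPullback f (Y.fromSpecResidueField s)
  have hF : Flat (f ≫ 𝟙 Y) := by rw [Category.comp_id]; infer_instance
  have hL : LocallyOfFinitePresentation (f ≫ 𝟙 Y) := by rw [Category.comp_id]; infer_instance
  have h := (Groth.Agent.S1494.result f (𝟙 Y)).2 (Y.fromSpecResidueField s)
    (Y.fromSpecResidueField s) (𝟙 _) IsPullback.of_id_snd (f.fiberι s)
    (f.fiberToSpecResidueField s) (by
      rw [Category.comp_id, Category.comp_id]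
      exact hpb) hpb.w
  rw [← isLCIMor_iff] at hf ⊢
  intro x'
  obtain ⟨U, V, e, hx, h4⟩ := hf (f.fiberι s x')
  have h3 : x' ∈ (f.fiberι s) ⁻¹' {x : X | (∃ (U : X.Opens) (V : Y.Opens) (hU : IsAffineOpen U) (hV : IsAffineOpen V) (hUV : U ≤ f ⁻¹ᵁ V), x ∈ U ∧
          letI := (f.appLE V U hUV).hom.toAlgebra
          LCI.IsLCI Γ(Y, V) Γ(X, U))} := ⟨U.1, V.1, U.2, V.2, e, hx, h4⟩
  rw [← h] at h3
  obtain ⟨U', V', hU', hV', e', hx', h5⟩ := h3
  exact ⟨⟨U', hU'⟩, ⟨V', hV'⟩, e', hx', h5⟩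

/-- a flat local complete intersection has complete intersection fibres. -/
theorem ci_fiberStalk {X Y : Scheme.{u}} (f : X ⟶ Y) [Flat f] [LocallyOfFinitePresentation f] (hf : LM f) (x : X) :
    Pi1.IsCompleteIntersection (CInt.fiberStalk f x) :=
  ci_stalk_of_field (Field.toIsField _) _ (LM_fiber f hf (f x)) (f.asFiber x)

theorem isRegularLocalRing_fiberStalk_of_smooth {P Y : Scheme.{u}} (π : P ⟶ Y) [Smooth π] (p : P) :
    IsRegularLocalRing (CInt.fiberStalk π p) := by
  have hsm : Smooth (π.fiberToSpecResidueField (π p)) :=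
    MorphismProperty.of_isPullback (P := @Smooth) (IsPullback.of_hasPullback π (Y.fromSpecResidueField (π p)))
      inferInstance
  exact isRegular_of_smooth (Field.toIsField _) (π.fiberToSpecResidueField (π p)) (π.asFiber p)

/-- the fibre stalk on an open subscheme of the source -/
theorem isCompleteIntersection_open_iff {X S : Scheme.{u}} (f : X ⟶ S) (U : X.Opens)
    (u : (U : Scheme.{u})) :
    Pi1.IsCompleteIntersection (CInt.fiberStalk (U.ι ≫ f) u) ↔
      Pi1.IsCompleteIntersection (CInt.fiberStalk f (U.ι u)) := by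
  let σ : X.presheaf.stalk (U.ι u) ≃+* (U : Scheme.{u}).presheaf.stalk u :=
    (asIso (U.ι.stalkMap u)).commRingCatIsoToRingEquiv
  let e2 : (X.presheaf.stalk (U.ι u) ⧸ fibIdeal f (U.ι u)) ≃+*
      ((U : Scheme.{u}).presheaf.stalk u ⧸ fibIdeal (U.ι ≫ f) u) :=
    Ideal.quotientEquiv _ _ σ (fibIdeal_comp U.ι f u)
  exact (isCompleteIntersection_iff_of_ringEquiv
    (((fiberStalkEquiv f (U.ι u)).symm.trans e2).trans (fiberStalkEquiv (U.ι ≫ f) u))).symm

/-- near every point a morphism locally of finite type is a closed immersion into a smooth one. -/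
theorem exists_embedding {X Y : Scheme.{u}} (f : X ⟶ Y) [LocallyOfFiniteType f] (x : X) :
    ∃ (U : X.Opens) (P : Scheme.{u}) (i : (U : Scheme.{u}) ⟶ P) (π : P ⟶ Y), x ∈ U ∧ IsAffineOpen U ∧
      IsClosedImmersion i ∧ Smooth π ∧ i ≫ π = U.ι ≫ f := by
  obtain ⟨V, hV, hxV, -⟩ := exists_isAffineOpen_mem_and_subset (x := f x) (U := ⊤) trivial
  obtain ⟨U, hU, hxU, e⟩ := exists_isAffineOpen_mem_and_subset (x := x) (U := f ⁻¹ᵁ V) hxV
  have hft : (f.appLE V U e).hom.FiniteType :=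
    HasRingHomProperty.appLE @LocallyOfFiniteType f inferInstance ⟨V, hV⟩ ⟨U, hU⟩ e
  let : Algebra Γ(Y, V) Γ(X, U) := (f.appLE V U e).hom.toAlgebra
  have hft' : Algebra.FiniteType Γ(Y, V) Γ(X, U) := hft
  obtain ⟨n, φ, hφ⟩ := Algebra.FiniteType.iff_quotient_mvPolynomial''.mp hft'
  let A : CommRingCat.{u} := Γ(Y, V)
  let P : CommRingCat.{u} := CommRingCat.of (MvPolynomial (Fin n) Γ(Y, V))
  let c : A ⟶ P := CommRingCat.ofHom MvPolynomial.C
  let φ' : P ⟶ Γ(X, U) := CommRingCat.ofHom φ.toRingHom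
  have hc : c ≫ φ' = f.appLE V U e := by
    ext a
    exact φ.commutes a
  refine ⟨U, Spec P, hU.isoSpec.hom ≫ Spec.map φ', Spec.map c ≫ hV.fromSpec, hxU, hU, ?_, ?_, ?_⟩
  · have : IsClosedImmersion (Spec.map φ') := IsClosedImmersion.spec_of_surjective φ' hφ
    infer_instance
  · have : Smooth (Spec.map c) := by
      rw [HasRingHomProperty.Spec_iff (P := @Smooth)]
      change (algebraMap Γ(Y, V) (MvPolynomial (Fin n) Γ(Y, V))).Smooth
      rw [RingHom.smooth_algebraMap]
      exact ⟨inferInstance, inferInstance⟩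
    infer_instance
  · rw [Category.assoc, ← Spec.map_comp_assoc, hc, IsAffineOpen.SpecMap_appLE_fromSpec f hV hU e,
      IsAffineOpen.isoSpec_hom_fromSpec_assoc]

/-- An affine chart on which the ring map is a local complete intersection. -/
theorem LM_of_chart {X Y : Scheme.{u}} (f : X ⟶ Y) {U : X.Opens} {V : Y.Opens} (hU : IsAffineOpen U)
    (hV : IsAffineOpen V) (e : U ≤ f ⁻¹ᵁ V) (h : AlgProp.toRingHom
      (fun (A B : Type u) [CommRing A] [CommRing B] [Algebra A B] => IsLCI A B) (f.appLE V U e).hom) :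
    LM (U.ι ≫ f) := by
  have h1 : U.ι ≫ f = hU.isoSpec.hom ≫ Spec.map (f.appLE V U e) ≫ hV.fromSpec := by
    rw [IsAffineOpen.SpecMap_appLE_fromSpec f hV hU e, IsAffineOpen.isoSpec_hom_fromSpec_assoc]
  rw [h1]
  refine LM_comp (LM_smooth _) (LM_comp ?_ (LM_smooth _))
  rw [HasRingHomProperty.Spec_iff (P := LM)]
  exact h

/-- lci is local for open immersions into the source. -/
theorem LM_of_cover {X Y : Scheme.{u}} (f : X ⟶ Y) (h : ∀ x : X, ∃ (W : Scheme.{u}) (j : W ⟶ X)
    (_ : IsOpenImmersion j), x ∈ Set.range j ∧ LM (j ≫ f)) : LM f := by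
  rw [← isLCIMor_iff]
  refine isLCIMor_of_cover f fun x => ?_
  obtain ⟨W, j, hj, hx, hW⟩ := h x
  refine ⟨j.opensRange, hx, ?_⟩
  rw [isLCIMor_iff, ← Scheme.Hom.isoOpensRange_inv_comp, Category.assoc]
  exact LM_comp (LM_smooth _) hW

/-- A flat morphism with complete intersection fibres is a local complete intersection. -/
theorem LM_of_ci_fiberStalk {X Y : Scheme.{u}} (f : X ⟶ Y) [Flat f] [LocallyOfFinitePresentation f]
    (hf : ∀ x : X, Pi1.IsCompleteIntersection (CInt.fiberStalk f x)) : LM f := by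
  refine LM_of_cover f fun x => ?_
  obtain ⟨U, P, i, π, hxU, hU, hi, hπ, he⟩ := exists_embedding f x
  have hlfpc : LocallyOfFinitePresentation (i ≫ π) := by rw [he]; infer_instance
  have hflatc : Flat (i ≫ π) := by rw [he]; infer_instance
  have hlfp : LocallyOfFinitePresentation i := Groth.Agent.Flat2D.LfpComp.lfp_of_comp i π
  have h1 : Pi1.IsCompleteIntersection (CInt.fiberStalk (i ≫ π) ⟨x, hxU⟩) := by
    rw [he, isCompleteIntersection_open_iff]
    exact hf x
  rw [isCompleteIntersection_fiberStalk_iff i π _ (isRegularLocalRing_fiberStalk_of_smooth π _)] at h1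
  obtain ⟨V, hV, hV', -⟩ := exists_regular_nbhd i π ⟨x, hxU⟩ (Flat.stalkMap π _)
    (Flat.stalkMap (i ≫ π) _) h1
  obtain ⟨W, hxW, hWV, rs, hrs, hk⟩ := (hV' ⟨x, hxU⟩ hV).exists_le V hV
  have hLM : LM ((i ⁻¹ᵁ W.1).ι ≫ i) := by
    refine LM_of_chart i (W.2.preimage i) W.2 le_rfl ?_
    rw [Scheme.Hom.appLE_eq_app, toRingHom_iff_kerK _ (i.app_surjective W.1 W.2), ← Scheme.Hom.ker_apply, hk]
    exact GenK.isKoszulRegularIdeal
      ⟨rs, Groth.Agent.Flat2H.RegularLCI.isKoszulRegularSeq_of_isWeaklyRegular _ rs hrs, rfl⟩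
  refine ⟨_, (i ⁻¹ᵁ W.1).ι ≫ U.ι, inferInstance, ⟨⟨⟨x, hxU⟩, hxW⟩, rfl⟩, ?_⟩
  rw [Category.assoc, ← he, ← Category.assoc]
  exact LM_comp hLM (LM_smooth π)

/-- For flat and locally finitely presented morphisms: local complete intersection iff the fibres are complete
intersections. -/
theorem LM_iff_isCIMorphism {X Y : Scheme.{u}} (f : X ⟶ Y) [Flat f] [LocallyOfFinitePresentation f] :
    LM f ↔ CInt.IsCIMorphism f :=
  ⟨fun h => ⟨inferInstance, inferInstance, ci_fiberStalk f h⟩, fun h => LM_of_ci_fiberStalk f h.2.2⟩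

end K561.LciFibre
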