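import Mathlib.RingTheory.Nakayama
import Mathlib.RingTheory.Ideal.Quotient.Operations
import Mathlib.RingTheory.Ideal.Over
import Mathlib.RingTheory.QuasiFinite.Basic
import Mathlib.RingTheory.Localization.Ideal
import Mathlib.RingTheory.Localization.Away.Basic

/-!
# Generation of a finite module over finitely many maximal ideals
-/

set_option autoImplicit false

open scoped Pointwise

namespace K561.SemiLocGen

theorem finite_maximalSpectrum (A B : Type*) [CommRing A] [CommRing B] [Algebra A B] [Module.Finite A B]
    [IsLocalRing A] : Finite (MaximalSpectrum B) := by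
  have h := Algebra.QuasiFinite.finite_primesOver (S := B) (IsLocalRing.maximalIdeal A)
  have : Finite ((IsLocalRing.maximalIdeal A).primesOver B) := h
  have hover : ∀ m : MaximalSpectrum B, m.asIdeal.LiesOver (IsLocalRing.maximalIdeal A) := fun m => by
    constructor
    have := m.isMaximal
    have h1 : (m.asIdeal.comap (algebraMap A B)).IsMaximal :=
      Ideal.isMaximal_comap_of_isIntegral_of_isMaximal _
    exact (IsLocalRing.eq_maximalIdeal h1).symm
  let f : MaximalSpectrum B → (IsLocalRing.maximalIdeal A).primesOver B :=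
    fun m => ⟨m.asIdeal, m.isMaximal.isPrime, hover m⟩
  refine Finite.of_injective f fun m m' hm => MaximalSpectrum.ext ?_
  exact congrArg (fun x => x.1) hm

section

variable {R N : Type*} [CommRing R] [AddCommGroup N] [Module R N] {ι : Type*} [Finite ι]

/-- If for each maximal ideal of a finite family a finite module is generated, at this maximal ideal, by
`n` elements, then there are `n` elements generating the module at all these maximal ideals. -/
theorem exists_family [Module.Finite R N] (m : ι → Ideal R) (hm : ∀ i, (m i).IsMaximal)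
    (hinj : Function.Injective m) {n : ℕ} (f : ι → Fin n → N)
    (h : ∀ i y, ∃ t ∉ m i, t • y ∈ Submodule.span R (Set.range (f i))) :
    ∃ F : Fin n → N, ∀ i, ∃ t ∉ m i, ∀ y, t • y ∈ Submodule.span R (Set.range F) := by
  classical
  have := Fintype.ofFinite ι
  have hcop : Pairwise (Function.onFun IsCoprime m) := fun i j hij => by
    have := hm i
    have := hm j
    exact Ideal.isCoprime_of_isMaximal fun he => hij (hinj he)
  choose e he using fun i => Ideal.exists_forall_sub_mem_ideal hcop (fun j => if j = i then (1 : R) else 0)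
  have he1 : ∀ i, e i - 1 ∈ m i := fun i => by simpa using he i i
  have he0 : ∀ i j, j ≠ i → e i ∈ m j := fun i j hij => by simpa [hij] using he i j
  let F : Fin n → N := fun j => ∑ i, e i • f i j
  refine ⟨F, fun i => ?_⟩
  have h1 : ∀ j, F j - f i j ∈ m i • (⊤ : Submodule R N) := fun j => by
    have h2 : F j - f i j = (e i - 1) • f i j + ∑ k ∈ Finset.univ.erase i, e k • f k j := by
      simp only [F]
      rw [← Finset.add_sum_erase _ _ (Finset.mem_univ i), sub_smul, one_smul]
      abel
    rw [h2]
    refine Submodule.add_mem _ (Submodule.smul_mem_smul (he1 i) trivial) (Submodule.sum_mem _ ?_)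
    intro k hk
    exact Submodule.smul_mem_smul (he0 k i (Finset.ne_of_mem_erase hk).symm) trivial
  have h3 : Submodule.span R (Set.range (f i)) ≤
      Submodule.span R (Set.range F) ⊔ m i • (⊤ : Submodule R N) := by
    rw [Submodule.span_le]
    rintro _ ⟨j, rfl⟩
    have h4 : f i j = F j + -(F j - f i j) := by abel
    rw [SetLike.mem_coe, h4]
    exact Submodule.add_mem_sup (Submodule.subset_span ⟨j, rfl⟩) (Submodule.neg_mem _ (h1 j))
  have h5 : (⊤ : Submodule R N) ≤ Submodule.span R (Set.range F) ⊔ m i • (⊤ : Submodule R N) := by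
    intro y _
    obtain ⟨t, ht, hty⟩ := h i y
    have hmi := hm i
    obtain ⟨s, p, hp, hs⟩ := hmi.exists_inv ht
    have h6 : y = s • t • y + p • y := by
      rw [smul_smul, ← add_smul, hs, one_smul]
    rw [h6]
    refine Submodule.add_mem _ (Submodule.smul_mem _ _ (h3 hty)) (Submodule.mem_sup_right ?_)
    exact Submodule.smul_mem_smul hp trivial
  obtain ⟨r, hr, hr'⟩ := Submodule.exists_sub_one_mem_and_smul_le_of_fg_of_le_sup
    (Module.Finite.fg_top (R := R) (M := N)) le_rfl h5
  refine ⟨r, fun h => (hm i).ne_top ?_, fun y => hr' (Submodule.smul_mem_pointwise_smul y r _ trivial)⟩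
  rw [Ideal.eq_top_iff_one]
  have : (1 : R) = r - (r - 1) := by ring
  rw [this]
  exact Ideal.sub_mem _ h hr

end

/-- Descending generators of a localized ideal to elements of the ideal. -/
theorem exists_generators_of_away {P : Type*} [CommRing P] (I : Ideal P) (g : P) {D : Type*} [CommRing D]
    [Algebra P D] [IsLocalization.Away g D] {n : ℕ} (f : Fin n → D)
    (h : I.map (algebraMap P D) = Ideal.span (Set.range f)) :
    ∃ a : Fin n → P, (∀ j, a j ∈ I) ∧ ∀ y ∈ I, ∃ k : ℕ, g ^ k * y ∈ Ideal.span (Set.range a) := by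
  have h1 : ∀ j, ∃ a ∈ I, ∃ s ∈ Submonoid.powers g, f j * algebraMap P D s = algebraMap P D a := fun j => by
    have h2 : f j ∈ I.map (algebraMap P D) := h ▸ Ideal.subset_span ⟨j, rfl⟩
    rw [IsLocalization.mem_map_algebraMap_iff (Submonoid.powers g)] at h2
    obtain ⟨⟨a, s⟩, hs⟩ := h2
    exact ⟨a.1, a.2, s.1, s.2, hs⟩
  choose a haI s hs hfa using h1
  refine ⟨a, haI, fun y hy => ?_⟩
  have h3 : algebraMap P D y ∈ (Ideal.span (Set.range a)).map (algebraMap P D) := by
    have h4 : (Ideal.span (Set.range a)).map (algebraMap P D) = I.map (algebraMap P D) := by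
      refine le_antisymm (Ideal.map_mono (Ideal.span_le.mpr ?_)) ?_
      · rintro _ ⟨j, rfl⟩
        exact haI j
      · rw [h, Ideal.span_le]
        rintro _ ⟨j, rfl⟩
        have hu : IsUnit (algebraMap P D (s j)) :=
          IsLocalization.map_units D (⟨s j, hs j⟩ : Submonoid.powers g)
        rw [SetLike.mem_coe, ← Ideal.mul_unit_mem_iff_mem _ hu, hfa]
        exact Ideal.mem_map_of_mem _ (Ideal.subset_span ⟨j, rfl⟩)
    rw [h4]
    exact Ideal.mem_map_of_mem _ hy
  rw [IsLocalization.algebraMap_mem_map_algebraMap_iff (Submonoid.powers g)] at h3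
  obtain ⟨_, ⟨k, rfl⟩, hk⟩ := h3
  exact ⟨k, hk⟩

end K561.SemiLocGen
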