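import Groth.Agent.Synt.K561.CotComp
import Groth.Agent.Synt.K561.ConFree
import Groth.Prelude.Def_KRR

/-!
# The virtual cotangent class of a factorisation
-/

set_option autoImplicit false
universe u

open CategoryTheory CategoryTheory.Limits AlgebraicGeometry TopologicalSpace Opposite OmegaSh

namespace K561.CotClass

open K561.ConDiff K561.OmegaSmooth K561.CotComp K561.ConFree K561.LciDict
open Groth.Agent.Dual.H375.LciLocus Groth.Agent.Krr.H495.Rank

variable {X V V' W Y : Scheme.{u}}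

theorem isFinLocFree_omega {g : V ⟶ Y} [Smooth g] {Ω : V.Modules} {d : Der g Ω} (hd : IsUniversal d) :
    FlatMod.IsFinLocFree Ω :=
  isFinLocFree_of_isFormallySmoothHom g (Groth.Agent.Flat2H.FSSmoothHom.isFormallySmoothHom_of_smooth g) hd

theorem isFinLocFree_pull_omega (i : X ⟶ V) {g : V ⟶ Y} [Smooth g] {Ω : V.Modules} {d : Der g Ω}
    (hd : IsUniversal d) : FlatMod.IsFinLocFree ((Scheme.Modules.pullback i).obj Ω) :=
  Groth.Agent.PerfB.FlatPull.isFinLocFree_pullback i (isFinLocFree_omega hd)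

/-- Comparison of the classes along a smooth morphism. -/
theorem class_eq (k : X ⟶ W) [IsClosedImmersion k] (p : W ⟶ V) [Smooth p]
    {i : X ⟶ V} [IsClosedImmersion i] (hi : k ≫ p = i) {g : V ⟶ Y} [Smooth g] {h : W ⟶ Y}
    (hh : p ≫ g = h) {ΩV : V.Modules} {dV : Der g ΩV} (hV : IsUniversal dV) {ΩW : W.Modules}
    {dW : Der h ΩW} (hW : IsUniversal dW) (hLM : LM i) :
    KRR.cl X ((Scheme.Modules.pullback i).obj ΩV) - KRR.cl X (Omega.conormal i) =
      KRR.cl X ((Scheme.Modules.pullback k).obj ΩW) - KRR.cl X (Omega.conormal k) := by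
  have hLk : LM k := by
    subst hi
    exact LM_of_comp_smooth k p hLM
  obtain ⟨φV, hφV⟩ := exists_isConormalDiff i dV
  obtain ⟨φW, hφW⟩ := exists_isConormalDiff k dW
  have : Smooth h := by subst hh; infer_instance
  obtain ⟨Z, hZ, a, b, q₀, q₁, w₀, w₁, -, -, h₀, h₁⟩ := exists_ses' k p hi hh hV hW hφV hφW
  have e1 := Groth.Agent.Krr.H496.PullK0.cl_ses h₀ (isFinLocFree_conormal_of_LM i hLM)
    (isFinLocFree_conormal_of_LM k hLk) hZ
  have e2 := Groth.Agent.Krr.H496.PullK0.cl_ses h₁ (isFinLocFree_pull_omega i hV)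
    (isFinLocFree_pull_omega k hW) hZ
  change Groth.Agent.Krr.H496.PullK0.cl _ - Groth.Agent.Krr.H496.PullK0.cl _ =
    Groth.Agent.Krr.H496.PullK0.cl _ - Groth.Agent.Krr.H496.PullK0.cl _
  rw [e1, e2]
  abel

/-- Comparison of the ranks along a smooth morphism. -/
theorem rank_eq (k : X ⟶ W) [IsClosedImmersion k] (p : W ⟶ V) [Smooth p]
    {i : X ⟶ V} [IsClosedImmersion i] (hi : k ≫ p = i) {g : V ⟶ Y} [Smooth g] {h : W ⟶ Y}
    (hh : p ≫ g = h) {ΩV : V.Modules} {dV : Der g ΩV} (hV : IsUniversal dV) {ΩW : W.Modules}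
    {dW : Der h ΩW} (hW : IsUniversal dW) (hLM : LM i) (x : X) :
    (rk ((Scheme.Modules.pullback i).obj ΩV) x : ℤ) - rk (Omega.conormal i) x =
      rk ((Scheme.Modules.pullback k).obj ΩW) x - rk (Omega.conormal k) x := by
  have hLk : LM k := by
    subst hi
    exact LM_of_comp_smooth k p hLM
  obtain ⟨φV, hφV⟩ := exists_isConormalDiff i dV
  obtain ⟨φW, hφW⟩ := exists_isConormalDiff k dW
  obtain ⟨Z, hZ, a, b, q₀, q₁, w₀, w₁, -, -, h₀, h₁⟩ := exists_ses' k p hi hh hV hW hφV hφW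
  have e1 : rk (Omega.conormal k) x = rk (Omega.conormal i) x + rk Z x :=
    rk_shortExact h₀ (isFinLocFree_conormal_of_LM i hLM) hZ x
  have e2 : rk ((Scheme.Modules.pullback k).obj ΩW) x =
      rk ((Scheme.Modules.pullback i).obj ΩV) x + rk Z x :=
    rk_shortExact h₁ (isFinLocFree_pull_omega i hV) hZ x
  rw [e1, e2]
  push_cast
  ring

/-- The virtual cotangent class does not depend on the factorisation. -/
theorem class_eq_of_two {g : V ⟶ Y} {g' : V' ⟶ Y} [Smooth g] [Smooth g']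
    {i : X ⟶ V} [IsClosedImmersion i] {i' : X ⟶ V'} [IsClosedImmersion i'] (w : i ≫ g = i' ≫ g')
    (hf : LM (i ≫ g))
    {Ω : V.Modules} {d : Der g Ω} (hd : IsUniversal d) {Ω' : V'.Modules} {d' : Der g' Ω'}
    (hd' : IsUniversal d') :
    KRR.cl X ((Scheme.Modules.pullback i).obj Ω) - KRR.cl X (Omega.conormal i) =
      KRR.cl X ((Scheme.Modules.pullback i').obj Ω') - KRR.cl X (Omega.conormal i') := by
  obtain ⟨W, k, p, p', hk, hp, hp', h1, h2, h3⟩ := exists_common w
  obtain ⟨ΩW, dW, hW⟩ := K583.ExistsUniv.exists_isUniversal (p ≫ g)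
  rw [class_eq k p h1 rfl hd hW (LM_of_comp_smooth i g hf),
    class_eq k p' h2 h3.symm hd' hW (LM_of_comp_smooth i' g' (w ▸ hf))]

/-- The virtual relative dimension does not depend on the factorisation. -/
theorem rank_eq_of_two {g : V ⟶ Y} {g' : V' ⟶ Y} [Smooth g] [Smooth g']
    {i : X ⟶ V} [IsClosedImmersion i] {i' : X ⟶ V'} [IsClosedImmersion i'] (w : i ≫ g = i' ≫ g')
    (hf : LM (i ≫ g))
    {Ω : V.Modules} {d : Der g Ω} (hd : IsUniversal d) {Ω' : V'.Modules} {d' : Der g' Ω'}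
    (hd' : IsUniversal d') (x : X) :
    (rk ((Scheme.Modules.pullback i).obj Ω) x : ℤ) - rk (Omega.conormal i) x =
      rk ((Scheme.Modules.pullback i').obj Ω') x - rk (Omega.conormal i') x := by
  obtain ⟨W, k, p, p', hk, hp, hp', h1, h2, h3⟩ := exists_common w
  obtain ⟨ΩW, dW, hW⟩ := K583.ExistsUniv.exists_isUniversal (p ≫ g)
  rw [rank_eq k p h1 rfl hd hW (LM_of_comp_smooth i g hf) x,
    rank_eq k p' h2 h3.symm hd' hW (LM_of_comp_smooth i' g' (w ▸ hf)) x]

end K561.CotClass
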