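import Groth.Agent.Synt.K561.CotClass
import Groth.Agent.S8679
import Groth.Agent.S9372
import Groth.Agent.Etbc.H215.AffEmb
import Groth.Agent.Pi1.H413.SecChart

/-!
# The virtual relative dimension: restriction and composition
-/

set_option autoImplicit false
universe u

open CategoryTheory CategoryTheory.Limits AlgebraicGeometry TopologicalSpace Opposite OmegaSh

namespace K561.VRel

open K561.ConDiff K561.OmegaSmooth K561.CotComp K561.ConFree K561.LciDict K561.CotClass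
  K583.DerFunct K583.ConMap
open Groth.Agent.Dual.H375.LciLocus Groth.Agent.Krr.H495.Rank

variable {X X' Y Y' Z : Scheme.{u}}

/-- Ranks of sheaves of differentials under open immersions. -/
theorem rk_omega_open {f : X ⟶ Y} {f' : X' ⟶ Y'} {j : X' ⟶ X} {k : Y' ⟶ Y}
    [IsOpenImmersion j] [IsOpenImmersion k] (w : f' ≫ k = j ≫ f) [Smooth f]
    {Ω : X.Modules} {d : Der f Ω} (hd : IsUniversal d) {Ω' : X'.Modules} {d' : Der f' Ω'}
    (hd' : IsUniversal d') (x' : X') : rk Ω' x' = rk Ω (j x') := by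
  obtain ⟨e, -⟩ := exists_iso_of_isUniversal (isUniversal_resDer w hd) hd'
  have e' : (Scheme.Modules.pullback j).obj Ω ≅ Ω' :=
    ((Scheme.Modules.restrictFunctorIsoPullback j).app Ω).symm ≪≫ e
  rw [← rk_pullback j (isFinLocFree_omega hd) x']
  exact (rk_iso e' (isFinLocFree_pull_omega j hd) x').symm

/-- Ranks of sheaves of differentials under base change. -/
theorem rk_omega_baseChange {f : X ⟶ Y} {f' : X' ⟶ Y'} {h : X' ⟶ X} {g : Y' ⟶ Y}
    (hsq : IsPullback h f' f g) [Smooth f]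
    {Ω : X.Modules} {d : Der f Ω} (hd : IsUniversal d) {Ω' : X'.Modules} {d' : Der f' Ω'}
    (hd' : IsUniversal d') (x' : X') : rk Ω' x' = rk Ω (h x') := by
  have hc := isDiffCompat_diffMap (f := f) (f' := f') (h := h) (b := g) hsq.w.symm hd d'
  have := K583.BaseChange.isIso_of_isPullback hsq hd hd' hc
  rw [← rk_pullback h (isFinLocFree_omega hd) x']
  exact (rk_iso (asIso (diffMap hsq.w.symm hd d')) (isFinLocFree_pull_omega h hd) x').symm

/-- Additivity of ranks of sheaves of differentials under composition of smooth morphisms. -/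
theorem rk_omega_comp {W V : Scheme.{u}} (p : W ⟶ V) [Smooth p] {g : V ⟶ Y} [Smooth g]
    {ΩV : V.Modules} {dV : Der g ΩV} (hV : IsUniversal dV) {ΩW : W.Modules} {dW : Der (p ≫ g) ΩW}
    (hW : IsUniversal dW) {ΩP : W.Modules} {dP : Der p ΩP} (hP : IsUniversal dP) (w : W) :
    rk ΩW w = rk ΩV (p w) + rk ΩP w := by
  let c₁ := diffMap (f := g) (f' := p ≫ g) (h := p) (b := 𝟙 Y) (by rw [Category.comp_id]) hV dW
  have hc₁ : IsDiffCompat p dV dW c₁ := isDiffCompat_diffMap _ hV dW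
  let c₂ := diffMap (f := p ≫ g) (f' := p) (h := 𝟙 W) (b := g) (by rw [Category.id_comp]) hW dP
  have hc₂ : IsDiffCompat (𝟙 W) dW dP c₂ := isDiffCompat_diffMap _ hW dP
  obtain ⟨w₁, h₁⟩ := shortExact_trans p hV hW hP hc₁ hc₂
  have e := rk_shortExact h₁ (isFinLocFree_pull_omega p hV) (isFinLocFree_omega hP) w
  rw [← rk_pullback p (isFinLocFree_omega hV) w]
  exact e

/-- Ranks of conormal modules under flat base change. -/
theorem rk_conormal_flat {i : Z ⟶ X} {Z' : Scheme.{u}} {i' : Z' ⟶ X'} [IsClosedImmersion i]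
    [IsClosedImmersion i'] {g : X ⟶ X'} {gZ : Z ⟶ Z'} [Flat g] (hsq : IsPullback i gZ g i')
    (h : LM i') (z : Z) : rk (Omega.conormal i) z = rk (Omega.conormal i') (gZ z) := by
  have h1 := (Groth.Agent.S9372.result i i' g gZ hsq _ (isConormalMap hsq.w)).2 inferInstance
  rw [← rk_pullback gZ (isFinLocFree_conormal_of_LM i' h) z]
  exact (rk_iso (asIso (Groth.Agent.Grpsch.ConormalIso.conormalMap hsq.w))
    (Groth.Agent.PerfB.FlatPull.isFinLocFree_pullback gZ (isFinLocFree_conormal_of_LM i' h)) z).symm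

/-- Ranks of conormal modules under composition. -/
theorem rk_conormal_comp (j : X ⟶ Y) (i : Y ⟶ Z) [IsClosedImmersion j] [IsClosedImmersion i]
    (hj : LM j) (hi : LM i) (x : X) :
    rk (Omega.conormal (j ≫ i)) x = rk (Omega.conormal i) (j x) + rk (Omega.conormal j) x := by
  have hi' : RegImm.IsRegularImmersion .koszul i :=
    (K561.RegImmDict.isRegularImmersion_koszul_iff i).2 ⟨inferInstance, hi⟩
  have hj' : RegImm.IsRegularImmersion .koszul j :=
    (K561.RegImmDict.isRegularImmersion_koszul_iff j).2 ⟨inferInstance, hj⟩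
  obtain ⟨w, h⟩ := Groth.Agent.S8679.result i j hi' hj' _
    (isConormalMap (i := j ≫ i) (i' := i) (g := 𝟙 Z) (gZ := j) (by rw [Category.comp_id])) _
    (isConormalMap (i := j) (i' := j ≫ i) (g := i) (gZ := 𝟙 X) (by rw [Category.id_comp]))
  have e := rk_shortExact h (Groth.Agent.PerfB.FlatPull.isFinLocFree_pullback j
    (isFinLocFree_conormal_of_LM i hi)) (isFinLocFree_conormal_of_LM j hj) x
  rw [← rk_pullback j (isFinLocFree_conormal_of_LM i hi) x]
  exact e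

/-- Restriction of a closed immersion to an open subscheme of the source. -/
theorem exists_restrict (i : X ⟶ Y) [IsClosedImmersion i] (U : X.Opens) :
    ∃ (V : Y.Opens) (j : U.toScheme ⟶ V.toScheme), IsClosedImmersion j ∧ IsPullback j U.ι V.ι i := by
  obtain ⟨V, hV, hVU⟩ := i.isEmbedding.isInducing.isOpen_iff.1 U.2
  have h : i ⁻¹ᵁ ⟨V, hV⟩ = U := Opens.ext hVU
  subst h
  exact ⟨⟨V, hV⟩, i ∣_ _, inferInstance, isPullback_morphismRestrict i ⟨V, hV⟩⟩

/-- The virtual relative dimension can be computed on an open subscheme. -/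
theorem vd_restrict {V : Scheme.{u}} {i : X ⟶ V} [IsClosedImmersion i] {g : V ⟶ Y} [Smooth g]
    {Ω : V.Modules} {d : Der g Ω} (hd : IsUniversal d) (hi : LM i) {U : X.Opens} {V' : V.Opens}
    {j : U.toScheme ⟶ V'.toScheme} [IsClosedImmersion j] (hsq : IsPullback j U.ι V'.ι i)
    {Ω' : V'.toScheme.Modules} {d' : Der (V'.ι ≫ g) Ω'} (hd' : IsUniversal d') (x : U) :
    (rk ((Scheme.Modules.pullback i).obj Ω) x.1 : ℤ) - rk (Omega.conormal i) x.1 =
      rk ((Scheme.Modules.pullback j).obj Ω') x - rk (Omega.conormal j) x := by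
  rw [rk_conormal_flat hsq hi x, rk_pullback j (isFinLocFree_omega hd'),
    rk_omega_open (j := V'.ι) (k := 𝟙 Y) (by rw [Category.comp_id]) hd hd',
    rk_pullback i (isFinLocFree_omega hd)]
  have : V'.ι (j x) = i x.1 := by
    rw [← Scheme.Hom.comp_apply, hsq.w, Scheme.Hom.comp_apply]
    rfl
  rw [this]
  rfl

/-- Additivity of the virtual relative dimension under composition. -/
theorem vd_comp {V W T : Scheme.{u}} (f : X ⟶ Y) (g : Y ⟶ Z) (hf : LM f) (hg : LM g)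
    (gf : V ⟶ Y) [Smooth gf] (jf : X ⟶ V) [IsClosedImmersion jf] (hjf : jf ≫ gf = f)
    (gg : W ⟶ Z) [Smooth gg] (jg : Y ⟶ W) [IsClosedImmersion jg] (hjg : jg ≫ gg = g)
    (gh : T ⟶ Z) [Smooth gh] (jh : X ⟶ T) [IsClosedImmersion jh] (hjh : jh ≫ gh = f ≫ g)
    {Ωf : V.Modules} {df : Der gf Ωf} (hdf : IsUniversal df)
    {Ωg : W.Modules} {dg : Der gg Ωg} (hdg : IsUniversal dg)
    {Ωh : T.Modules} {dh : Der gh Ωh} (hdh : IsUniversal dh) (x : X) :
    (rk ((Scheme.Modules.pullback jh).obj Ωh) x : ℤ) - rk (Omega.conormal jh) x =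
      ((rk ((Scheme.Modules.pullback jf).obj Ωf) x : ℤ) - rk (Omega.conormal jf) x) +
      (rk ((Scheme.Modules.pullback jg).obj Ωg) (f x) - rk (Omega.conormal jg) (f x)) := by
  have ljf : LM jf := LM_of_comp_smooth jf gf (hjf ▸ hf)
  have ljg : LM jg := LM_of_comp_smooth jg gg (hjg ▸ hg)
  have ljh : LM jh := LM_of_comp_smooth jh gh (hjh ▸ LM_comp hf hg)
  -- open neighbourhoods
  obtain ⟨W', hW', hyW', -⟩ := exists_isAffineOpen_mem_and_subset (x := jg (f x)) (U := ⊤) trivial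
  have hY' : IsAffineOpen (jg ⁻¹ᵁ W') := hW'.preimage jg
  obtain ⟨U, hU, hxU, e⟩ := exists_isAffineOpen_mem_and_subset (x := x) (U := f ⁻¹ᵁ (jg ⁻¹ᵁ W')) hyW'
  have : LocallyOfFiniteType f := by rw [← hjf]; infer_instance
  let f' : U.toScheme ⟶ (jg ⁻¹ᵁ W').toScheme := f.resLE (jg ⁻¹ᵁ W') U e
  have hf' : f' ≫ (jg ⁻¹ᵁ W').ι = U.ι ≫ f := Scheme.Hom.resLE_comp_ι f e
  have : IsAffine (jg ⁻¹ᵁ W').toScheme := hY'
  have : IsAffine W'.toScheme := hW'
  have : IsAffine U.toScheme := hU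
  have : LocallyOfFiniteType (f' ≫ (jg ⁻¹ᵁ W').ι) := by rw [hf']; infer_instance
  have : LocallyOfFiniteType f' := locallyOfFiniteType_of_comp f' (jg ⁻¹ᵁ W').ι
  obtain ⟨n, j, hj, hjw⟩ := Groth.Agent.Etbc.H215.AffEmb.exists_closedImmersion f'
  have hsm : ∀ S : Scheme.{u}, Smooth (𝔸(ULift.{u} (Fin n); S) ↘ S) :=
    Groth.Agent.Pi1.H413.SecChart.smooth_affineSpace (ULift.{u} (Fin n))
  let P := 𝔸(ULift.{u} (Fin n); (jg ⁻¹ᵁ W').toScheme)
  let Q := 𝔸(ULift.{u} (Fin n); W'.toScheme)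
  let πP : P ⟶ (jg ⁻¹ᵁ W').toScheme := 𝔸(ULift.{u} (Fin n); (jg ⁻¹ᵁ W').toScheme) ↘ _
  let πQ : Q ⟶ W'.toScheme := 𝔸(ULift.{u} (Fin n); W'.toScheme) ↘ _
  have sP : Smooth πP := hsm _
  have sQ : Smooth πQ := hsm _
  let m : P ⟶ Q := AffineSpace.map (ULift.{u} (Fin n)) (jg ∣_ W')
  have hm : IsPullback m πP πQ (jg ∣_ W') := AffineSpace.isPullback_map (jg ∣_ W')
  have cm : IsClosedImmersion m := MorphismProperty.of_isPullback hm.flip inferInstance
  have hsW : IsPullback (jg ∣_ W') (jg ⁻¹ᵁ W').ι W'.ι jg := isPullback_morphismRestrict jg W'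
  have lW : LM (jg ∣_ W') := LM_flatBaseChange hsW.flip ljg
  have lm : LM m := LM_flatBaseChange hm.flip lW
  -- the factorisations over `U`
  obtain ⟨V', j', cj', hj'⟩ := exists_restrict jf U
  obtain ⟨T', t', ct', ht'⟩ := exists_restrict jh U
  have hjP : j ≫ πP ≫ (jg ⁻¹ᵁ W').ι = U.ι ≫ f := by
    rw [← Category.assoc, hjw, hf']
  have lj : LM j := LM_of_comp_smooth j (πP ≫ (jg ⁻¹ᵁ W').ι)
    (by rw [hjP]; exact LM_comp (LM_smooth _) hf)
  -- universal derivations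
  obtain ⟨ΩV', dV', uV'⟩ := K583.ExistsUniv.exists_isUniversal (V'.ι ≫ gf)
  obtain ⟨ΩT', dT', uT'⟩ := K583.ExistsUniv.exists_isUniversal (T'.ι ≫ gh)
  obtain ⟨ΩP, dP, uP⟩ := K583.ExistsUniv.exists_isUniversal (πP ≫ (jg ⁻¹ᵁ W').ι)
  obtain ⟨ΩP', dP', uP'⟩ := K583.ExistsUniv.exists_isUniversal πP
  obtain ⟨ΩQ, dQ, uQ⟩ := K583.ExistsUniv.exists_isUniversal (πQ ≫ W'.ι ≫ gg)
  obtain ⟨ΩQ', dQ', uQ'⟩ := K583.ExistsUniv.exists_isUniversal πQ
  obtain ⟨ΩW', dW', uW'⟩ := K583.ExistsUniv.exists_isUniversal (W'.ι ≫ gg)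
  let x' : U := ⟨x, hxU⟩
  have e1 := vd_restrict hdf ljf hj' uV' x'
  have e2 := vd_restrict hdh ljh ht' uT' x'
  have w1 : j' ≫ V'.ι ≫ gf = j ≫ πP ≫ (jg ⁻¹ᵁ W').ι := by
    rw [hjP, ← Category.assoc, hj'.w, Category.assoc, hjf]
  have w2 : t' ≫ T'.ι ≫ gh = (j ≫ m) ≫ πQ ≫ W'.ι ≫ gg := by
    rw [← Category.assoc, ht'.w, Category.assoc, hjh, ← Category.assoc (j ≫ m), Category.assoc j,
      hm.w, Category.assoc, Category.assoc, ← Category.assoc (jg ∣_ W'), hsW.w, Category.assoc, hjg,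
      (reassoc_of% hjP)]
  have e3 := rank_eq_of_two w1 (LM_comp (LM_flatBaseChange hj'.flip ljf) (LM_smooth _)) uV' uP x'
  have e4 := rank_eq_of_two w2 (LM_comp (LM_flatBaseChange ht'.flip ljh) (LM_smooth _)) uT' uQ x'
  have e5 := rk_conormal_comp j m lj lm x'
  have e6 := rk_conormal_flat hm lW (j x')
  have e7 := rk_conormal_flat hsW ljg (πP (j x'))
  have e8 := rk_omega_comp πQ uW' uQ uQ' ((j ≫ m) x')
  have e9 := rk_omega_baseChange hm uQ' uP' (j x')
  have e10 := rk_omega_open (j := W'.ι) (k := 𝟙 Z) (by rw [Category.comp_id]) hdg uW' (πQ ((j ≫ m) x'))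
  have e11 := rk_omega_open (f := πP ≫ (jg ⁻¹ᵁ W').ι) (f' := πP) (j := 𝟙 P) (k := (jg ⁻¹ᵁ W').ι)
    (by rw [Category.id_comp]) uP uP' (j x')
  have w3 : (j ≫ m) ≫ πQ ≫ W'.ι = U.ι ≫ f ≫ jg := by
    rw [← Category.assoc (j ≫ m), Category.assoc j, hm.w, Category.assoc, Category.assoc, hsW.w,
      (reassoc_of% hjP)]
  have p1 : W'.ι (πQ ((j ≫ m) x')) = jg (f x) := by
    rw [← Scheme.Hom.comp_apply, ← Scheme.Hom.comp_apply, w3, Scheme.Hom.comp_apply,
      Scheme.Hom.comp_apply]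
    rfl
  have p2 : (jg ⁻¹ᵁ W').ι (πP (j x')) = f x := by
    rw [← Scheme.Hom.comp_apply, ← Scheme.Hom.comp_apply, hjP, Scheme.Hom.comp_apply]
    rfl
  have p3 : (j ≫ m) x' = m (j x') := Scheme.Hom.comp_apply _ _ _
  have e12 : rk ΩP' (j x') = rk ΩP (j x') := e11
  have e13 : rk ((Scheme.Modules.pullback jg).obj Ωg) (f x) = rk Ωg (jg (f x)) :=
    rk_pullback jg (isFinLocFree_omega hdg) (f x)
  have e14 : rk ((Scheme.Modules.pullback (j ≫ m)).obj ΩQ) x' = rk ΩQ ((j ≫ m) x') :=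
    rk_pullback (j ≫ m) (isFinLocFree_omega uQ) x'
  have e15 : rk ((Scheme.Modules.pullback j).obj ΩP) x' = rk ΩP (j x') :=
    rk_pullback j (isFinLocFree_omega uP) x'
  rw [p1] at e10
  rw [p2] at e7
  rw [p3] at e8 e10 e14
  rw [e14, e8, e10, e5, e6, e7, ← e9, e12] at e4
  rw [e15] at e3
  rw [e13]
  change (rk ((Scheme.Modules.pullback jf).obj Ωf) x : ℤ) - rk (Omega.conormal jf) x = _ at e1
  change (rk ((Scheme.Modules.pullback jh).obj Ωh) x : ℤ) - rk (Omega.conormal jh) x = _ at e2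
  rw [e2, e1, e4, e3]
  push_cast
  ring

end K561.VRel
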