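import Mathlib.RingTheory.Etale.Locus
import Mathlib.RingTheory.QuasiFinite.Basic
import Mathlib.RingTheory.Unramified.LocalStructure
import Mathlib.RingTheory.Smooth.StandardSmoothCotangent

/-!
# Points with invertible Jacobian are étale and quasi-finite
-/

namespace K561.EtalePoint

open Algebra

/-- if `B` has a presubmersive presentation over `A` with as many relations as variables and the Jacobian does not
lie in the prime `q`, then `B` is étale over `A` at `q`. -/
theorem isEtaleAt {A B : Type*} [CommRing A] [CommRing B] [Algebra A B] {ι σ : Type} [Finite ι] [Finite σ]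
    (P : PreSubmersivePresentation A B ι σ) (hc : Nat.card ι = Nat.card σ) (q : Ideal B) [q.IsPrime]
    (hq : P.jacobian ∉ q) : IsEtaleAt A q := by
  let Q : PreSubmersivePresentation B (Localization.Away P.jacobian) Unit Unit :=
    .localizationAway (Localization.Away P.jacobian) P.jacobian
  have hu : IsUnit (algebraMap B (Localization.Away P.jacobian) P.jacobian) :=
    IsLocalization.Away.algebraMap_isUnit _
  let R : SubmersivePresentation A (Localization.Away P.jacobian) (Unit ⊕ ι) (Unit ⊕ σ) :=
    { Q.comp P with
      jacobian_isUnit := by
        change IsUnit (Q.comp P).jacobian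
        rw [PreSubmersivePresentation.comp_jacobian_eq_jacobian_smul_jacobian]
        rw [Algebra.smul_def, PreSubmersivePresentation.localizationAway_jacobian]
        exact hu.mul hu }
  have : IsStandardSmoothOfRelativeDimension 0 A (Localization.Away P.jacobian) := by
    refine ⟨⟨_, _, inferInstance, inferInstance, R, ?_⟩⟩
    rw [Presentation.dimension]
    simp [hc]
  have he : Etale A (Localization.Away P.jacobian) := inferInstance
  have h1 : FormallyEtale A (Localization.Away P.jacobian) := inferInstance
  have h2 := basicOpen_subset_etaleLocus_iff.mpr h1
  exact h2 (show (⟨q, ‹_›⟩ : PrimeSpectrum B) ∈ PrimeSpectrum.basicOpen P.jacobian from hq)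

theorem quasiFiniteAt {A B : Type*} [CommRing A] [CommRing B] [Algebra A B] [Algebra.FiniteType A B] (q : Ideal B)
    [q.IsPrime] [IsEtaleAt A q] : QuasiFiniteAt A q := by
  have : EssFiniteType A (Localization.AtPrime q) := by
    have : EssFiniteType B (Localization.AtPrime q) := EssFiniteType.of_isLocalization _ q.primeCompl
    exact EssFiniteType.comp A B _
  infer_instance

end K561.EtalePoint
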