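import Groth.Prelude.Def_RegImm
import Groth.Agent.Ega4B.DimFT2
import Mathlib.RingTheory.Extension.Presentation.Basic
import Mathlib.RingTheory.Ideal.KrullsHeightTheorem

/-!
# Global complete intersections over a field: lower bound for the dimension, localization
-/

set_option autoImplicit false
universe u v

namespace K561.GCI

open MvPolynomial Algebra

theorem height_eq_of_isMaximal (k : Type u) [Field k] (n : ℕ) (m : Ideal (MvPolynomial (Fin n) k)) [m.IsMaximal] :
    m.height = n := by
  have h := Groth.Agent.Ega4B.DimFT2.height_add_dim k (MvPolynomial (Fin n) k) m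
  let := Ideal.Quotient.field m
  rw [ringKrullDim_eq_zero_of_field, add_zero, MvPolynomial.ringKrullDim_of_isNoetherianRing,
    ringKrullDim_eq_zero_of_field, zero_add, Nat.card_eq_fintype_card, Fintype.card_fin] at h
  exact_mod_cast h

/-- Lower bound for the dimension of `k[x₁,…,x_n]/(c equations)` (if nonzero). -/
theorem le_dim_quotient (k : Type u) [Field k] {n c : ℕ} (r : Fin c → MvPolynomial (Fin n) k)
    (h : Ideal.span (Set.range r) ≠ ⊤) :
    (n : WithBot ℕ∞) ≤ ringKrullDim (MvPolynomial (Fin n) k ⧸ Ideal.span (Set.range r)) + c := by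
  obtain ⟨m, hm, hle⟩ := Ideal.exists_le_maximal _ h
  have h1 := Ideal.height_le_ringKrullDim_quotient_add_encard (p := m) (Set.range r)
    (Ideal.span_le.mp hle)
  rw [height_eq_of_isMaximal k n m] at h1
  refine le_trans h1 ?_
  gcongr
  have : (Set.range r).encard ≤ c := by
    rw [← Set.image_univ]
    refine (Set.encard_image_le _ _).trans ?_
    simp
  exact_mod_cast this

/-- Lower bound for the dimension of an algebra with a presentation. -/
theorem le_dim {k : Type u} [Field k] {S : Type v} [CommRing S] [Algebra k S] [Nontrivial S] {n c : ℕ}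
    (P : Presentation k S (Fin n) (Fin c)) :
    (n : WithBot ℕ∞) ≤ ringKrullDim S + c := by
  have e : (MvPolynomial (Fin n) k ⧸ Ideal.span (Set.range P.relation)) ≃+* S :=
    (Ideal.quotEquivOfEq P.span_range_relation_eq_ker).trans P.quotientEquiv.toRingEquiv
  rw [← ringKrullDim_eq_of_ringEquiv e]
  refine le_dim_quotient k P.relation ?_
  intro h
  have := Ideal.Quotient.subsingleton_iff.mpr h
  exact not_subsingleton S (e.symm.injective.subsingleton)

theorem dim_localization_le {S : Type u} [CommRing S] (M : Submonoid S) (T : Type v) [CommRing T] [Algebra S T]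
    [IsLocalization M T] : ringKrullDim T ≤ ringKrullDim S := by
  refine Order.krullDim_le_of_strictMono (PrimeSpectrum.comap (algebraMap S T)) ?_
  refine Monotone.strictMono_of_injective ?_ (PrimeSpectrum.localization_comap_injective T M)
  intro p q h
  exact Ideal.comap_mono h

/-- Definition of global complete intersections with presentations. -/
theorem isGlobalCI_iff (k S : Type u) [Field k] [CommRing S] [Algebra k S] :
    Synt.IsGlobalCI k S ↔ Subsingleton S ∨ ∃ n c : ℕ, c ≤ n ∧ ∃ _P : Presentation k S (Fin n) (Fin c),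
      ringKrullDim S = ((n - c : ℕ) : WithBot ℕ∞) := by
  unfold Synt.IsGlobalCI
  refine or_congr_right ?_
  refine exists_congr fun n => exists_congr fun c => and_congr_right fun _ => ?_
  constructor
  · rintro ⟨φ, r, hφ, hk, hd⟩
    refine ⟨{ Generators.ofSurjective (fun i => φ (X i))
      (by rwa [show aeval (fun i => φ (X i)) = φ by ext; simp]) with
      relation := r
      span_range_relation_eq_ker := ?_ }, hd⟩
    rw [← hk, Generators.ker_eq_ker_aeval_val]
    have : aeval (fun i => φ (X i)) = φ := by ext; simp
    change RingHom.ker φ.toRingHom = RingHom.ker (aeval (fun i => φ (X i)))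
    rw [this]
    rfl
  · rintro ⟨P, hd⟩
    refine ⟨aeval P.val, P.relation, P.aeval_val_surjective, ?_, hd⟩
    rw [P.span_range_relation_eq_ker, Generators.ker_eq_ker_aeval_val]
    rfl

/-- A presentation with `c ≤ n` and dimension at most `n - c` gives a global complete intersection. -/
theorem isGlobalCI_of_le {k S : Type u} [Field k] [CommRing S] [Algebra k S] {n c : ℕ}
    (P : Presentation k S (Fin n) (Fin c)) (hd : ringKrullDim S + c ≤ n) : Synt.IsGlobalCI k S := by
  rw [isGlobalCI_iff]
  rcases subsingleton_or_nontrivial S with h | h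
  · exact Or.inl h
  · right
    have h1 := le_dim P
    have h2 : ringKrullDim S + c = n := le_antisymm hd h1
    have h3 : ringKrullDim S ≠ ⊤ := by
      intro h
      rw [h] at h2
      have h5 : ((⊤ : WithBot ℕ∞) + c) = ⊤ := by
        change (((⊤ : ℕ∞) : WithBot ℕ∞) + ((c : ℕ∞) : WithBot ℕ∞)) = _
        rw [← WithBot.coe_add, top_add]
        rfl
      rw [h5] at h2
      have h6 : ((⊤ : ℕ∞) : WithBot ℕ∞) = ((n : ℕ∞) : WithBot ℕ∞) := h2
      rw [WithBot.coe_inj] at h6
      exact ENat.top_ne_coe n h6
    obtain ⟨d, hd⟩ : ∃ d : ℕ, ringKrullDim S = d := by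
      have h4 : (0 : WithBot ℕ∞) ≤ ringKrullDim S := ringKrullDim_nonneg_of_nontrivial
      revert h3 h4
      generalize ringKrullDim S = x
      intro h3 h4
      induction x using WithBot.recBotCoe with
      | bot => simp at h4
      | coe x =>
        induction x using ENat.recTopCoe with
        | top => exact absurd rfl h3
        | coe x => exact ⟨x, rfl⟩
    rw [hd] at h2
    have h5 : d + c = n := by exact_mod_cast h2
    refine ⟨n, c, by omega, P, ?_⟩
    rw [hd]
    congr
    omega

/-- Localization of a presentation. -/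
theorem exists_presentation_away {k S : Type u} [CommRing k] [CommRing S] [Algebra k S] {n c : ℕ}
    (P : Presentation k S (Fin n) (Fin c)) (g : S) (T : Type u) [CommRing T] [Algebra k T] [Algebra S T]
    [IsScalarTower k S T] [IsLocalization.Away g T] : Nonempty (Presentation k T (Fin (n + 1)) (Fin (c + 1))) := by
  let Q : Presentation S T Unit Unit := Presentation.localizationAway T g
  have e : ∀ m, Nonempty (Fin (m + 1) ≃ (Unit ⊕ Fin m)) := fun m =>
    ⟨Fintype.equivOfCardEq (by simp [add_comm])⟩
  exact ⟨(Q.comp P).reindex (e n).some (e c).some⟩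

theorem isGlobalCI_away {k S : Type u} [Field k] [CommRing S] [Algebra k S] (h : Synt.IsGlobalCI k S) (g : S)
    (T : Type u) [CommRing T] [Algebra k T] [Algebra S T]
    [IsScalarTower k S T] [IsLocalization.Away g T] : Synt.IsGlobalCI k T := by
  rw [isGlobalCI_iff] at h
  rcases h with h | ⟨n, c, hc, P, hd⟩
  · exact Or.inl (Module.subsingleton S T)
  · obtain ⟨Q⟩ := exists_presentation_away P g T
    refine isGlobalCI_of_le Q ?_
    refine (add_le_add_left (dim_localization_le (Submonoid.powers g) T) _).trans ?_
    rw [hd]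
    have : (n - c) + (c + 1) = n + 1 := by omega
    exact_mod_cast this.le

theorem isGlobalCI_of_algEquiv {k S T : Type u} [Field k] [CommRing S] [Algebra k S] [CommRing T] [Algebra k T]
    (e : S ≃ₐ[k] T) (h : Synt.IsGlobalCI k S) : Synt.IsGlobalCI k T := by
  rw [isGlobalCI_iff] at h ⊢
  rcases h with h | ⟨n, c, hc, P, hd⟩
  · exact Or.inl (e.symm.injective.subsingleton)
  · exact Or.inr ⟨n, c, hc, P.ofAlgEquiv e, by rw [← hd]; exact (ringKrullDim_eq_of_ringEquiv e.toRingEquiv).symm⟩

end K561.GCI
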